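import Cfsg.Agent.PermB.Arith

/-! Abelian subgroups of symmetric and alternating groups. -/

set_option autoImplicit false

open Equiv MulAction

namespace Cfsg.Agent.PermB

variable {Ω : Type*} [Fintype Ω] [DecidableEq Ω]

/-- the set of orbits -/
abbrev OQ (A : Subgroup (Perm Ω)) := orbitRel.Quotient A Ω

noncomputable instance instFintypeOQ (A : Subgroup (Perm Ω)) : Fintype (OQ A) :=
  Fintype.ofFinite _

/-- class of a point -/
def cls (A : Subgroup (Perm Ω)) (x : Ω) : OQ A := Quotient.mk'' x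

theorem cls_eq_iff (A : Subgroup (Perm Ω)) {x y : Ω} : cls A x = cls A y ↔ ∃ a ∈ A, a y = x := by
  rw [cls, cls, Quotient.eq'', orbitRel_apply, mem_orbit_iff]
  exact ⟨fun ⟨a, h⟩ => ⟨a.1, a.2, h⟩, fun ⟨a, ha, h⟩ => ⟨⟨a, ha⟩, h⟩⟩

theorem cls_apply (A : Subgroup (Perm Ω)) {a : Perm Ω} (ha : a ∈ A) (x : Ω) :
    cls A (a x) = cls A x := (cls_eq_iff A).2 ⟨a, ha, rfl⟩

theorem cls_out (A : Subgroup (Perm Ω)) (c : OQ A) : cls A c.out = c := Quotient.out_eq' c

/-- size of an orbit -/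
noncomputable def sz (A : Subgroup (Perm Ω)) (c : OQ A) : ℕ := Nat.card {x // cls A x = c}

theorem sz_pos (A : Subgroup (Perm Ω)) (c : OQ A) : 0 < sz A c := by
  have : Nonempty {x // cls A x = c} := ⟨⟨c.out, cls_out A c⟩⟩
  exact Nat.card_pos

theorem sum_sz (A : Subgroup (Perm Ω)) : ∑ c, sz A c = Fintype.card Ω := by
  rw [← Nat.card_eq_fintype_card, ← Nat.card_congr (Equiv.sigmaFiberEquiv (cls A)), Nat.card_sigma]
  rfl

theorem index_stab (A : Subgroup (Perm Ω)) (x : Ω) : (stabilizer A x).index = sz A (cls A x) := by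
  rw [index_stabilizer, sz, ← Nat.card_coe_set_eq]
  refine Nat.card_congr (Equiv.subtypeEquivRight fun y => ?_)
  rw [cls_eq_iff, mem_orbit_iff]
  exact ⟨fun ⟨a, h⟩ => ⟨a.1, a.2, h⟩, fun ⟨a, ha, h⟩ => ⟨⟨a, ha⟩, h⟩⟩

/-- multiset of orbit sizes -/
noncomputable def szs (A : Subgroup (Perm Ω)) : Multiset ℕ := Finset.univ.val.map (sz A)

theorem szs_sum (A : Subgroup (Perm Ω)) : (szs A).sum = Fintype.card Ω := sum_sz A

theorem szs_prod (A : Subgroup (Perm Ω)) : (szs A).prod = ∏ c, sz A c := rfl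

theorem mem_szs (A : Subgroup (Perm Ω)) {k : ℕ} : k ∈ szs A ↔ ∃ c, sz A c = k := by
  simp [szs]

theorem count_szs (A : Subgroup (Perm Ω)) (k : ℕ) :
    (szs A).count k = Nat.card {c // sz A c = k} := by
  classical
  rw [szs, Multiset.count_map, Nat.card_eq_fintype_card, Fintype.card_subtype]
  simp only [eq_comm]; rfl

section ab
variable (A : Subgroup (Perm Ω)) [IsMulCommutative A]

theorem ab_fix {a : Perm Ω} (ha : a ∈ A) {x y : Ω} (hx : a x = x) (h : cls A y = cls A x) :
    a y = y := by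
  obtain ⟨b, hb, rfl⟩ := (cls_eq_iff A).1 h
  rw [← Perm.mul_apply, setLike_mul_comm ha hb, Perm.mul_apply, hx]

/-- the embedding into the product of the transitive constituents -/
noncomputable def abHom : A →* ((c : OQ A) → A ⧸ stabilizer A c.out) :=
  MonoidHom.pi fun c => QuotientGroup.mk' (stabilizer A c.out)

theorem abHom_injective : Function.Injective (abHom A) := by
  rw [injective_iff_map_eq_one]
  intro a ha
  apply Subtype.ext
  ext x
  have := congrFun ha (cls A x)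
  simp only [abHom, MonoidHom.pi_apply, QuotientGroup.mk'_apply, Pi.one_apply,
    QuotientGroup.eq_one_iff, mem_stabilizer_iff] at this
  exact ab_fix A a.2 this (cls_out A _).symm

theorem card_abTarget : Nat.card ((c : OQ A) → A ⧸ stabilizer A c.out) = (szs A).prod := by
  rw [Nat.card_pi, szs_prod]
  refine Finset.prod_congr rfl fun c _ => ?_
  rw [← Subgroup.index, index_stab, cls_out]

theorem card_dvd_prod : Nat.card A ∣ (szs A).prod := by
  rw [← card_abTarget]
  exact Subgroup.card_dvd_of_injective _ (abHom_injective A)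

theorem szs_prod_pos (B : Subgroup (Perm Ω)) : 0 < (szs B).prod := by
  rw [szs_prod]; exact Finset.prod_pos fun c _ => sz_pos B c

theorem ab_card_le : Nat.card A ≤ gg (Fintype.card Ω) := by
  rw [← szs_sum A]
  exact (Nat.le_of_dvd (szs_prod_pos A) (card_dvd_prod A)).trans (prod_le_gg _)

theorem exists_loc (h : Nat.card A = (szs A).prod) {a : Perm Ω} (ha : a ∈ A) (x : Ω) :
    ∃ b ∈ A, (∀ y, cls A y = cls A x → b y = a y) ∧ ∀ y, cls A y ≠ cls A x → b y = y := by
  classical
  have hs : Function.Surjective (abHom A) :=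
    ((abHom_injective A).bijective_of_nat_card_le (by rw [h, card_abTarget])).2
  obtain ⟨b, hb⟩ := hs (Pi.mulSingle (cls A x) (QuotientGroup.mk ⟨a, ha⟩))
  refine ⟨b, b.2, fun y hy => ?_, fun y hy => ?_⟩
  · have := congrFun hb (cls A x)
    simp only [abHom, MonoidHom.pi_apply, QuotientGroup.mk'_apply, Pi.mulSingle_eq_same,
      QuotientGroup.eq, mem_stabilizer_iff] at this
    have h2 := ab_fix A (A.mul_mem (A.inv_mem b.2) ha) this (hy.trans (cls_out A _).symm)
    rw [Perm.mul_apply, Perm.inv_eq_iff_eq] at h2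
    exact h2.symm
  · have := congrFun hb (cls A y)
    simp only [abHom, MonoidHom.pi_apply, QuotientGroup.mk'_apply, Pi.mulSingle_eq_of_ne hy,
      QuotientGroup.eq_one_iff, mem_stabilizer_iff] at this
    exact ab_fix A b.2 this (cls_out A _).symm

end ab

section res
variable {p : Ω → Prop} {k : ℕ} (e : {x // p x} ≃ Fin k)

/-- restriction of a permutation to an invariant set, transported to `Fin k` -/
def resP (σ : Perm Ω) (h : ∀ x, p (σ x) ↔ p x) : Perm (Fin k) := e.permCongr (σ.subtypePerm h)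

theorem resP_apply (σ : Perm Ω) (h : ∀ x, p (σ x) ↔ p x) (x : Ω) (hx : p x) :
    resP e σ h (e ⟨x, hx⟩) = e ⟨σ x, (h x).2 hx⟩ := by
  simp [resP]

theorem resP_fix (σ : Perm Ω) (h : ∀ x, p (σ x) ↔ p x) (i : Fin k) :
    resP e σ h i = i ↔ σ (e.symm i) = e.symm i := by
  obtain ⟨⟨x, hx⟩, rfl⟩ := e.surjective i
  rw [resP_apply]; simp

theorem sign_resP (σ : Perm Ω) (h : ∀ x, p (σ x) ↔ p x) (h2 : ∀ x, σ x ≠ x → p x) :
    Perm.sign (resP e σ h) = Perm.sign σ := by
  classical
  rw [resP, Perm.sign_permCongr]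
  exact Perm.sign_subtypePerm σ h h2

end res

theorem dec2 : ∀ σ : Perm (Fin 2), Perm.sign σ = 1 → ∀ i, σ i = i := by decide +kernel

theorem dec4 : ∀ σ : Perm (Fin 4), Perm.sign σ = 1 → (∀ i, σ i = i → ∀ j, σ j = j) →
    ∀ i, σ (σ i) = i := by decide +kernel

theorem dec3c : ∀ σ τ : Perm (Fin 3), (∀ i, σ i = i → ∀ j, σ j = j) →
    (∀ i, τ i = i → ∀ j, τ j = j) → ∀ i, σ (τ i) = τ (σ i) := by decide +kernel

set_option synthInstance.maxSize 1000 in
theorem dec4c : ∀ σ τ : Perm (Fin 4), (∀ i, σ i = i → ∀ j, σ j = j) → (∀ i, σ (σ i) = i) →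
    (∀ i, τ i = i → ∀ j, τ j = j) → (∀ i, τ (τ i) = i) → ∀ i, σ (τ i) = τ (σ i) := by
  decide +kernel

/-- enumeration of an orbit -/
noncomputable def szEquiv (A : Subgroup (Perm Ω)) (c : OQ A) {k : ℕ} (h : sz A c = k) :
    {x // cls A x = c} ≃ Fin k := Finite.equivFinOfCardEq h

section even
variable (A : Subgroup (Perm Ω)) [IsMulCommutative A]

theorem pres_cls {B : Subgroup (Perm Ω)} {a : Perm Ω} (ha : a ∈ B) (c : OQ B) (x : Ω) :
    cls B (a x) = c ↔ cls B x = c := by rw [cls_apply B ha]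

theorem sz_ne_two (hA : A ≤ alternatingGroup Ω) (h : Nat.card A = (szs A).prod) (c : OQ A) :
    sz A c ≠ 2 := by
  intro hc
  let e := szEquiv A c hc
  have h01 : cls A (e.symm 1).1 = cls A (e.symm 0).1 := (e.symm 1).2.trans (e.symm 0).2.symm
  obtain ⟨a, ha, hx⟩ := (cls_eq_iff A).1 h01
  obtain ⟨b, hb, h1, h2⟩ := exists_loc A h ha (e.symm 0).1
  have hs := sign_resP e b (pres_cls hb c) fun x hx => by
    by_contra h3; exact hx (h2 x (by rw [(e.symm 0).2]; exact h3))
  rw [Perm.mem_alternatingGroup.1 (hA hb)] at hs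
  have := (resP_fix e b _ 0).1 (dec2 _ hs 0)
  rw [h1 _ rfl, hx] at this
  exact absurd (e.symm.injective (Subtype.ext this)) (by decide)

theorem sq_of_four (hA : A ≤ alternatingGroup Ω) (h : Nat.card A = (szs A).prod)
    {a : Perm Ω} (ha : a ∈ A) (x : Ω) (hx : sz A (cls A x) = 4) : a (a x) = x := by
  let e := szEquiv A _ hx
  obtain ⟨b, hb, h1, h2⟩ := exists_loc A h ha x
  have hs := sign_resP e b (pres_cls hb _) fun y hy => by
    by_contra h3; exact hy (h2 y h3)
  rw [Perm.mem_alternatingGroup.1 (hA hb)] at hs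
  have := dec4 _ hs (fun i hi j => by
    rw [resP_fix] at hi ⊢
    exact ab_fix A hb hi ((e.symm j).2.trans (e.symm i).2.symm)) (e ⟨x, rfl⟩)
  rw [resP_apply, resP_apply] at this
  have h3 : b (b x) = x := congrArg Subtype.val (e.injective this)
  rwa [h1 x rfl, h1 _ (cls_apply A ha x)] at h3

theorem even_full (hA : A ≤ alternatingGroup Ω) (hn : Fintype.card Ω ≠ 2)
    (h : mm (Fintype.card Ω) ≤ Nat.card A) : Nat.card A = (szs A).prod := by
  obtain ⟨t, ht⟩ := card_dvd_prod A
  have h1 := prod_le_gg (szs A)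
  rw [szs_sum] at h1
  have h2 := gg_lt _ hn
  have h3 := szs_prod_pos A
  have : t = 1 := by
    rcases Nat.lt_trichotomy t 1 with h4 | h4 | h4
    · have : t = 0 := by omega
      subst this; omega
    · exact h4
    · nlinarith
  rw [ht, this, mul_one]

theorem even_card_le (hA : A ≤ alternatingGroup Ω) (hn : Fintype.card Ω ≠ 2) :
    Nat.card A ≤ mm (Fintype.card Ω) := by
  by_contra h
  have hf := even_full A hA hn (by omega)
  have := (prod_le_mm (szs A) fun a ha => by
    obtain ⟨c, rfl⟩ := (mem_szs A).1 ha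
    exact ⟨(sz_pos A c).ne', sz_ne_two A hA hf c⟩).1
  rw [szs_sum, ← hf] at this
  omega

theorem even_struct (hA : A ≤ alternatingGroup Ω) (h1 : Fintype.card Ω ≠ 1)
    (h2 : Fintype.card Ω ≠ 2) (h5 : Fintype.card Ω ≠ 5)
    (h : mm (Fintype.card Ω) ≤ Nat.card A) :
    (∀ c, sz A c = 3 ∨ sz A c = 4) ∧ (szs A).count 4 = Fintype.card Ω % 3 ∧
      3 * (szs A).count 3 + 4 * (szs A).count 4 = Fintype.card Ω := by
  have hf := even_full A hA h2 h
  have := (prod_le_mm (szs A) fun a ha => by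
    obtain ⟨c, rfl⟩ := (mem_szs A).1 ha
    exact ⟨(sz_pos A c).ne', sz_ne_two A hA hf c⟩).2
  rw [szs_sum, ← hf] at this
  obtain ⟨k1, k2⟩ := this (le_antisymm (even_card_le A hA h2) h) h1 h2 h5
  exact ⟨fun c => k1 _ ((mem_szs A).2 ⟨c, rfl⟩), k2⟩

end even

theorem exists_match (A B : Subgroup (Perm Ω)) (h : ∀ k, (szs A).count k = (szs B).count k) :
    ∃ g : Perm Ω, ∀ x y, cls B (g x) = cls B (g y) ↔ cls A x = cls A y := by
  have e1 : ∀ k, {c // sz A c = k} ≃ {c // sz B c = k} := fun k =>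
    (Finite.card_eq.1 (by rw [← count_szs, ← count_szs, h])).some
  let e : OQ A ≃ OQ B := Equiv.ofFiberEquiv e1
  have he : ∀ c, sz B (e c) = sz A c := fun c => Equiv.ofFiberEquiv_map e1 c
  have e2 : ∀ c, {x // e (cls A x) = c} ≃ {x // cls B x = c} := fun c =>
    (Finite.card_eq.1 (by
      obtain ⟨c, rfl⟩ := e.surjective c
      rw [← sz, he, sz]
      exact Nat.card_congr (Equiv.subtypeEquivRight fun x => e.injective.eq_iff))).some
  refine ⟨Equiv.ofFiberEquiv (f := fun x => e (cls A x)) e2, fun x y => ?_⟩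
  rw [Equiv.ofFiberEquiv_map (f := fun x => e (cls A x)) e2,
    Equiv.ofFiberEquiv_map (f := fun x => e (cls A x)) e2, e.injective.eq_iff]

theorem commute_of_loc (B : Subgroup (Perm Ω)) (hB : ∀ c, sz B c = 3 ∨ sz B c = 4)
    {σ τ : Perm Ω} (h1 : ∀ x, cls B (σ x) = cls B x) (h1' : ∀ x, cls B (τ x) = cls B x)
    (h2 : ∀ x y, σ x = x → cls B y = cls B x → σ y = y)
    (h2' : ∀ x y, τ x = x → cls B y = cls B x → τ y = y)
    (h3 : ∀ x, sz B (cls B x) = 4 → σ (σ x) = x) (h3' : ∀ x, sz B (cls B x) = 4 → τ (τ x) = x) :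
    σ * τ = τ * σ := by
  ext x
  rw [Perm.mul_apply, Perm.mul_apply]
  have p1 : ∀ y, cls B (σ y) = cls B x ↔ cls B y = cls B x := fun y => by rw [h1]
  have p1' : ∀ y, cls B (τ y) = cls B x ↔ cls B y = cls B x := fun y => by rw [h1']
  have semi : ∀ {k : ℕ} (e : {y // cls B y = cls B x} ≃ Fin k) (ρ : Perm Ω) (hp)
      (_ : ∀ x y, ρ x = x → cls B y = cls B x → ρ y = y) (i : Fin k),
      resP e ρ hp i = i → ∀ j, resP e ρ hp j = j := by
    intro k e ρ hp h i hi j
    rw [resP_fix] at hi ⊢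
    exact h _ _ hi ((e.symm j).2.trans (e.symm i).2.symm)
  rcases hB (cls B x) with h | h
  · let e := szEquiv B _ h
    have := dec3c _ _ (semi e σ p1 h2) (semi e τ p1' h2') (e ⟨x, rfl⟩)
    simp only [resP_apply] at this
    exact congrArg Subtype.val (e.injective this)
  · let e := szEquiv B _ h
    have sq : ∀ (ρ : Perm Ω) (hp) (_ : ∀ x, sz B (cls B x) = 4 → ρ (ρ x) = x) (i : Fin 4),
        resP e ρ hp (resP e ρ hp i) = i := by
      intro ρ hp h3 i
      obtain ⟨⟨y, hy⟩, rfl⟩ := e.surjective i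
      simp only [resP_apply]
      congr 2
      exact h3 y (by rw [hy, h])
    have := dec4c _ _ (semi e σ p1 h2) (sq σ p1 h3) (semi e τ p1' h2') (sq τ p1' h3') (e ⟨x, rfl⟩)
    simp only [resP_apply] at this
    exact congrArg Subtype.val (e.injective this)

theorem sz_match {A B : Subgroup (Perm Ω)} {g : Perm Ω}
    (hg : ∀ x y, cls B (g x) = cls B (g y) ↔ cls A x = cls A y) (x : Ω) :
    sz B (cls B (g x)) = sz A (cls A x) :=
  (Nat.card_congr (g.subtypeEquiv fun y => (hg y x).symm)).symm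

theorem exists_even_conj (A B : Subgroup (Perm Ω)) [IsMulCommutative A] [IsMulCommutative B]
    (hA : A ≤ alternatingGroup Ω) (hB : B ≤ alternatingGroup Ω) (h0 : Fintype.card Ω ≠ 0)
    (h1 : Fintype.card Ω ≠ 1)
    (h2 : Fintype.card Ω ≠ 2) (h5 : Fintype.card Ω ≠ 5)
    (ha : mm (Fintype.card Ω) ≤ Nat.card A) (hb : mm (Fintype.card Ω) ≤ Nat.card B) :
    ∃ g ∈ alternatingGroup Ω, ∀ a ∈ A, ∀ b ∈ B, g * a * g⁻¹ * b = b * (g * a * g⁻¹) := by
  obtain ⟨a1, a2, a3⟩ := even_struct A hA h1 h2 h5 ha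
  obtain ⟨b1, b2, b3⟩ := even_struct B hB h1 h2 h5 hb
  have hc : ∀ k, (szs A).count k = (szs B).count k := by
    intro k
    by_cases k3 : k = 3
    · subst k3; omega
    by_cases k4 : k = 4
    · subst k4; omega
    rw [Multiset.count_eq_zero.2, Multiset.count_eq_zero.2]
    · rw [mem_szs]; rintro ⟨c, rfl⟩; have := b1 c; omega
    · rw [mem_szs]; rintro ⟨c, rfl⟩; have := a1 c; omega
  obtain ⟨g, hg1, hg⟩ : ∃ g ∈ alternatingGroup Ω,
      ∀ x y, cls B (g x) = cls B (g y) ↔ cls A x = cls A y := by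
    obtain ⟨g, hg⟩ := exists_match A B hc
    rcases Int.units_eq_one_or (Perm.sign g) with hs | hs
    · exact ⟨g, hs, hg⟩
    · obtain ⟨x⟩ : Nonempty Ω := Fintype.card_pos_iff.1 (by omega)
      have : Nontrivial {y // cls A y = cls A x} := by
        rw [← Finite.one_lt_card_iff_nontrivial]
        have := a1 (cls A x); unfold sz at this; omega
      obtain ⟨⟨u, hu⟩, ⟨v, hv⟩, huv⟩ := exists_pair_ne {y // cls A y = cls A x}
      have huv' : u ≠ v := fun e => huv (Subtype.ext e)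
      have hsw : ∀ y, cls A (swap u v y) = cls A y := by
        intro y
        rw [swap_apply_def]
        split_ifs with e1 e2
        · rw [e1, hu, hv]
        · rw [e2, hu, hv]
        · rfl
      refine ⟨g * swap u v, ?_, fun x y => ?_⟩
      · rw [Perm.mem_alternatingGroup, map_mul, hs, Perm.sign_swap huv']; decide
      · rw [Perm.mul_apply, Perm.mul_apply, hg, hsw, hsw]
  refine ⟨g, hg1, fun a haA b hbB => ?_⟩
  have hinv : ∀ x, g⁻¹ (g x) = x := fun x => by simp
  apply commute_of_loc B b1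
  · intro x
    obtain ⟨x, rfl⟩ := g.surjective x
    simp only [Perm.mul_apply, hinv]
    rw [hg, cls_apply A haA]
  · exact cls_apply B hbB
  · intro x y
    obtain ⟨x, rfl⟩ := g.surjective x
    obtain ⟨y, rfl⟩ := g.surjective y
    simp only [Perm.mul_apply, hinv, hg, g.injective.eq_iff]
    exact ab_fix A haA
  · exact fun x y => ab_fix B hbB
  · intro x
    obtain ⟨x, rfl⟩ := g.surjective x
    simp only [Perm.mul_apply, hinv, g.injective.eq_iff, sz_match hg]
    exact sq_of_four A hA (even_full A hA h2 ha) haA x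
  · exact sq_of_four B hB (even_full B hB h2 hb) hbB

end Cfsg.Agent.PermB
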