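import Mathlib

/-! Arithmetic of products of parts of partitions. -/

set_option autoImplicit false

namespace Cfsg.Agent.PermB

/-- largest product of positive integers with sum `n` -/
def gg : ℕ → ℕ
  | 0 => 1 | 1 => 1 | 2 => 2 | 3 => 3 | 4 => 4
  | (n + 5) => 3 * gg (n + 2)

/-- largest product of positive integers different from two with sum `n` -/
def mm : ℕ → ℕ
  | 0 => 1 | 1 => 1 | 2 => 1 | 3 => 3 | 4 => 4 | 5 => 5 | 6 => 9 | 7 => 12 | 8 => 16
  | (n + 9) => 3 * mm (n + 6)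

theorem gg_step {n : ℕ} (h : 2 ≤ n) : gg (n + 3) = 3 * gg n := by
  obtain ⟨m, rfl⟩ := Nat.exists_eq_add_of_le' h
  rfl

theorem mm_step {n : ℕ} (h : 6 ≤ n) : mm (n + 3) = 3 * mm n := by
  obtain ⟨m, rfl⟩ := Nat.exists_eq_add_of_le' h
  rfl

theorem gg_step_le (n : ℕ) : 3 * gg n ≤ gg (n + 3) := by
  rcases Nat.lt_or_ge n 2 with h | h
  · interval_cases n <;> decide
  · rw [gg_step h]

theorem mm_step_le (n : ℕ) : 3 * mm n ≤ mm (n + 3) := by
  rcases Nat.lt_or_ge n 6 with h | h
  · interval_cases n <;> decide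
  · rw [mm_step h]

theorem mm_pos (n : ℕ) : 0 < mm n := by
  induction n using Nat.strong_induction_on with
  | _ n ih =>
    rcases Nat.lt_or_ge n 9 with h | h
    · interval_cases n <;> decide
    · obtain ⟨m, rfl⟩ : ∃ m, n = m + 3 := ⟨n - 3, by omega⟩
      rw [mm_step (by omega)]; have := ih m (by omega); omega

theorem gg_mul_small (a : ℕ) (ha : a ≤ 4) (s : ℕ) : a * gg s ≤ gg (a + s) := by
  induction s using Nat.strong_induction_on with
  | _ s ih =>
    rcases Nat.lt_or_ge s 5 with h | h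
    · interval_cases s <;> interval_cases a <;> decide
    · obtain ⟨m, rfl⟩ : ∃ m, s = m + 3 := ⟨s - 3, by omega⟩
      rw [← add_assoc, gg_step (by omega), gg_step (by omega)]
      have := ih m (by omega)
      nlinarith

theorem gg_mul (a s : ℕ) : a * gg s ≤ gg (a + s) := by
  induction a using Nat.strong_induction_on with
  | _ a ih =>
    rcases Nat.lt_or_ge a 5 with h | h
    · exact gg_mul_small a (by omega) s
    · obtain ⟨m, rfl⟩ : ∃ m, a = m + 3 := ⟨a - 3, by omega⟩
      have h1 := ih m (by omega)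
      have h2 := gg_step_le (m + s)
      rw [show m + 3 + s = m + s + 3 by ring]
      have : (m + 3) * gg s ≤ 3 * (m * gg s) := by
        rw [← mul_assoc]; exact Nat.mul_le_mul_right _ (by omega)
      omega

theorem prod_le_gg (L : Multiset ℕ) : L.prod ≤ gg L.sum := by
  induction L using Multiset.induction_on with
  | empty => simp [gg]
  | cons a L ih =>
    rw [Multiset.prod_cons, Multiset.sum_cons]
    exact (Nat.mul_le_mul_left a ih).trans (gg_mul a _)

/-- the statement of the one-step inequality for `mm` -/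
def MMs (a s : ℕ) : Prop :=
  a * mm s ≤ mm (a + s) ∧ (a * mm s = mm (a + s) → a + s ≠ 1 → a + s ≠ 2 → a + s ≠ 5 →
    (a = 3 ∨ (a = 4 ∧ s % 3 ≠ 2)) ∧ s ≠ 1 ∧ s ≠ 2 ∧ s ≠ 5)

instance instDecMMs (a s : ℕ) : Decidable (MMs a s) := by unfold MMs; infer_instance

theorem mms_small (a : ℕ) (ha : a = 1 ∨ a = 3 ∨ a = 4 ∨ a = 5) (s : ℕ) : MMs a s := by
  induction s using Nat.strong_induction_on with
  | _ s ih =>
    rcases Nat.lt_or_ge s 9 with h | h
    · rcases ha with rfl | rfl | rfl | rfl <;> interval_cases s <;> decide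
    · obtain ⟨m, rfl⟩ : ∃ m, s = m + 3 := ⟨s - 3, by omega⟩
      obtain ⟨h1, h2⟩ := ih m (by omega)
      unfold MMs
      rw [← add_assoc, mm_step (by omega), mm_step (by omega)]
      refine ⟨by nlinarith, fun e _ _ _ => ?_⟩
      have := h2 (by nlinarith) (by omega) (by omega) (by omega)
      omega

theorem mms (a : ℕ) (ha0 : a ≠ 0) (ha2 : a ≠ 2) (s : ℕ) : MMs a s := by
  induction a using Nat.strong_induction_on with
  | _ a ih =>
    rcases Nat.lt_or_ge a 6 with h | h
    · exact mms_small a (by omega) s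
    · obtain ⟨m, rfl⟩ : ∃ m, a = m + 3 := ⟨a - 3, by omega⟩
      have h1 := (ih m (by omega) (by omega) (by omega)).1
      have h2 := mm_step_le (m + s)
      have h3 := mm_pos s
      have : (m + 3) * mm s < 3 * (m * mm s) := by
        rw [← mul_assoc]; exact Nat.mul_lt_mul_of_pos_right (by omega) h3
      unfold MMs
      rw [show m + 3 + s = m + s + 3 by ring]
      exact ⟨by omega, fun e => by omega⟩

theorem prod_le_mm (L : Multiset ℕ) (h : ∀ a ∈ L, a ≠ 0 ∧ a ≠ 2) :
    L.prod ≤ mm L.sum ∧ (L.prod = mm L.sum → L.sum ≠ 1 → L.sum ≠ 2 → L.sum ≠ 5 →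
      (∀ a ∈ L, a = 3 ∨ a = 4) ∧ L.count 4 = L.sum % 3 ∧ 3 * L.count 3 + 4 * L.count 4 = L.sum) := by
  induction L using Multiset.induction_on with
  | empty => simp [mm]
  | cons a L ih =>
    obtain ⟨i1, i2⟩ := ih fun b hb => h b (Multiset.mem_cons_of_mem hb)
    obtain ⟨a0, a2⟩ := h a (Multiset.mem_cons_self _ _)
    obtain ⟨m1, m2⟩ := mms a a0 a2 L.sum
    rw [Multiset.prod_cons, Multiset.sum_cons]
    have i3 := Nat.mul_le_mul_left a i1
    refine ⟨i3.trans m1, fun e n1 n2 n5 => ?_⟩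
    obtain ⟨k1, k2, k3, k4⟩ := m2 (by omega) n1 n2 n5
    have e2 : L.prod = mm L.sum := Nat.eq_of_mul_eq_mul_left (Nat.pos_of_ne_zero a0) (by omega)
    obtain ⟨j1, j2, j3⟩ := i2 e2 k2 k3 k4
    refine ⟨fun b hb => ?_, ?_⟩
    · rcases Multiset.mem_cons.1 hb with rfl | hb
      · omega
      · exact j1 b hb
    · rcases k1 with rfl | ⟨rfl, k1⟩
      · rw [Multiset.count_cons_self, Multiset.count_cons_of_ne (by decide)]; omega
      · rw [Multiset.count_cons_self, Multiset.count_cons_of_ne (by decide)]; omega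

theorem gg_lt (n : ℕ) (h : n ≠ 2) : gg n < 2 * mm n := by
  have key : ∀ n, 6 ≤ n → gg n < 2 * mm n := by
    intro n
    induction n using Nat.strong_induction_on with
    | _ n ih =>
      intro hn
      rcases Nat.lt_or_ge n 9 with h | h
      · interval_cases n <;> decide
      · obtain ⟨m, rfl⟩ : ∃ m, n = m + 3 := ⟨n - 3, by omega⟩
        rw [mm_step (by omega), gg_step (by omega)]; have := ih m (by omega) (by omega); omega
  rcases Nat.lt_or_ge n 6 with h6 | h6
  · interval_cases n <;> first | decide | exact absurd rfl h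
  · exact key n h6

theorem gg_vals (k : ℕ) (hk : 1 ≤ k) :
    gg (3 * k) = 3 ^ k ∧ gg (3 * k + 1) = 4 * 3 ^ (k - 1) ∧ gg (3 * k + 2) = 2 * 3 ^ k := by
  induction k, hk using Nat.le_induction with
  | base => decide
  | succ k hk ih =>
    obtain ⟨h1, h2, h3⟩ := ih
    obtain ⟨j, rfl⟩ := Nat.exists_eq_add_of_le' hk
    refine ⟨?_, ?_, ?_⟩
    · rw [show 3 * (j + 1 + 1) = 3 * (j + 1) + 3 by ring, gg_step (by omega), h1]; ring
    · rw [show 3 * (j + 1 + 1) + 1 = 3 * (j + 1) + 1 + 3 by ring, gg_step (by omega), h2]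
      simp only [Nat.add_sub_cancel]; ring
    · rw [show 3 * (j + 1 + 1) + 2 = 3 * (j + 1) + 2 + 3 by ring, gg_step (by omega), h3]; ring

theorem mm_vals (k : ℕ) (hk : 2 ≤ k) :
    mm (3 * k) = 3 ^ k ∧ mm (3 * k + 1) = 4 * 3 ^ (k - 1) ∧ mm (3 * k + 2) = 16 * 3 ^ (k - 2) := by
  induction k, hk using Nat.le_induction with
  | base => decide
  | succ k hk ih =>
    obtain ⟨h1, h2, h3⟩ := ih
    obtain ⟨j, rfl⟩ := Nat.exists_eq_add_of_le' hk
    refine ⟨?_, ?_, ?_⟩
    · rw [show 3 * (j + 2 + 1) = 3 * (j + 2) + 3 by ring, mm_step (by omega), h1]; ring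
    · rw [show 3 * (j + 2 + 1) + 1 = 3 * (j + 2) + 1 + 3 by ring, mm_step (by omega), h2]
      rw [show j + 2 - 1 = j + 1 by omega, show j + 2 + 1 - 1 = j + 2 by omega]; ring
    · rw [show 3 * (j + 2 + 1) + 2 = 3 * (j + 2) + 2 + 3 by ring, mm_step (by omega), h3]
      rw [show j + 2 - 2 = j by omega, show j + 2 + 1 - 2 = j + 1 by omega]; ring

end Cfsg.Agent.PermB
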