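import Cfsg.Agent.SymAlt.Carmichael

/-! Double covers of alternating groups: every element is a commutator. -/

set_option autoImplicit false

open Equiv Equiv.Perm Cfsg.Agent.SymAlt
open scoped commutatorElement

namespace Cfsg.Agent.PermB

variable {α : Type*} [DecidableEq α] [Fintype α]

/-- products of two involutions with control of supports -/
theorem exists_two_inv (k : ℕ) : ∀ σ : Perm α, σ.support.card ≤ k → ∀ x : α, ∃ s t : Perm α,
    s * s = 1 ∧ t * t = 1 ∧ σ = s * t ∧ (∀ z, σ z = z → s z = z ∧ t z = z) ∧ s x = x ∧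
    (sign σ = 1 → s.support.card = t.support.card) ∧
    (sign σ = -1 → s.support.card + 2 = t.support.card) := by
  induction k with
  | zero =>
    intro σ h x
    have : σ = 1 := by simpa using h
    subst this
    exact ⟨1, 1, by simp, by simp, by simp, by simp, by simp, by simp, by simp⟩
  | succ k ih =>
    have main : ∀ σ : Perm α, σ.support.card ≤ k + 1 → ∀ x : α, σ x ≠ x → ∃ s t : Perm α,
        s * s = 1 ∧ t * t = 1 ∧ σ = s * t ∧ (∀ z, σ z = z → s z = z ∧ t z = z) ∧ s x = x ∧
        (sign σ = 1 → s.support.card = t.support.card) ∧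
        (sign σ = -1 → s.support.card + 2 = t.support.card) := by
      intro σ h x hx
      have h1 := card_support_swap_mul hx
      obtain ⟨s, t, s2, t2, e, f, sy, g1, g2⟩ := ih (swap x (σ x) * σ) (by omega) (σ x)
      have fx := f x (by simp)
      have fz : ∀ z, σ z = z → (swap x (σ x) * σ) z = z ∧ swap x (σ x) z = z := by
        intro z hz
        have : swap x (σ x) z = z := swap_apply_of_ne_of_ne (fun e => hx (e ▸ hz))
          (fun e => hx (by have := σ.injective (hz.trans e); rw [← e, this]))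
        exact ⟨by rw [Perm.mul_apply, hz, this], this⟩
      have dj : Perm.Disjoint (swap x (σ x)) s := by
        intro z
        by_cases e1 : z = x
        · right; rw [e1, fx.1]
        · by_cases e2 : z = σ x
          · right; rw [e2, sy]
          · left; exact swap_apply_of_ne_of_ne e1 e2
      have ti : t⁻¹ = t := inv_eq_of_mul_eq_one_right t2
      have c : (t * (swap x (σ x) * s) * t).support.card = s.support.card + 2 := by
        have := card_support_conj (σ := t) (τ := swap x (σ x) * s)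
        rw [ti] at this
        rw [this, dj.card_support_mul, card_support_swap hx.symm, add_comm]
      have sg : sign (swap x (σ x) * σ) = - sign σ := by
        rw [map_mul, sign_swap hx.symm]; simp
      refine ⟨t, t * (swap x (σ x) * s) * t, t2, ?_, ?_, fun z hz => ⟨(f z (fz z hz).1).2, ?_⟩,
        fx.2, fun h => ?_, fun h => ?_⟩
      · have : swap x (σ x) * s * (swap x (σ x) * s) = 1 := by
          rw [mul_assoc, ← mul_assoc s, ← dj.commute.eq, mul_assoc, s2, mul_one, swap_mul_self]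
        calc _ = t * (swap x (σ x) * s) * (t * t) * (swap x (σ x) * s) * t := by group
          _ = t * (swap x (σ x) * s * (swap x (σ x) * s)) * t := by rw [t2]; group
          _ = 1 := by rw [this, mul_one, t2]
      · rw [← mul_assoc, ← mul_assoc, t2, one_mul, mul_assoc, ← e, ← mul_assoc, swap_mul_self,
          one_mul]
      · have := f z (fz z hz).1
        rw [Perm.mul_apply, Perm.mul_apply, Perm.mul_apply, this.2, this.1, (fz z hz).2, this.2]
      · rw [c, g2 (by rw [sg, h])]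
      · rw [c, g1 (by rw [sg, h, neg_neg])]
    intro σ h x
    by_cases hx : σ x = x
    · by_cases h1 : σ = 1
      · subst h1
        exact ⟨1, 1, by simp, by simp, by simp, by simp, by simp, by simp, by simp⟩
      · obtain ⟨y, hy⟩ : ∃ y, σ y ≠ y := by
          by_contra k; push Not at k; exact h1 (Equiv.ext k)
        obtain ⟨s, t, s2, t2, e, f, -, g⟩ := main σ h y hy
        exact ⟨s, t, s2, t2, e, f, (f x hx).1, g⟩
    · exact main σ h x hx

theorem isConj_inv {s t : Perm α} (hs : s * s = 1) (ht : t * t = 1)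
    (h : s.support.card = t.support.card) : IsConj s t := by
  have key : ∀ u : Perm α, u * u = 1 → u.cycleType = Multiset.replicate (u.support.card / 2) 2 := by
    intro u hu
    have := cycleType_of_pow_prime_eq_one (p := 2) (σ := u) (by rw [pow_two, hu])
    rw [this, ← sum_cycleType, this]
    simp
  rw [isConj_iff_cycleType_eq, key s hs, key t ht, h]

/-- `a` has two 2-cycles -/
def Good (a : Perm α) : Prop :=
  ∃ u v w y : α, u ≠ v ∧ u ≠ w ∧ u ≠ y ∧ v ≠ w ∧ v ≠ y ∧ w ≠ y ∧
    a u = v ∧ a v = u ∧ a w = y ∧ a y = w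

theorem good_of_inv {s : Perm α} (hs : s * s = 1) (h1 : s ≠ 1) (h : sign s = 1) : Good s := by
  have inv : ∀ z, s (s z) = z := fun z => by rw [← Perm.mul_apply, hs]; rfl
  obtain ⟨u, hu⟩ : ∃ y, s y ≠ y := by
    by_contra k; push Not at k; exact h1 (Equiv.ext k)
  obtain ⟨w, hw⟩ : ∃ w, s w ≠ swap u (s u) w := by
    by_contra k; push Not at k
    rw [Equiv.ext k, sign_swap hu.symm] at h
    exact absurd h (by decide)
  have n1 : w ≠ u := fun e => hw (by rw [e, swap_apply_left])
  have n2 : w ≠ s u := fun e => hw (by rw [e, swap_apply_right, inv])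
  rw [swap_apply_of_ne_of_ne n1 n2] at hw
  exact ⟨u, s u, w, s w, hu.symm, n1.symm, fun e => n2 (by rw [e, inv]), n2.symm,
    fun e => n1 (s.injective e).symm, hw.symm, rfl, inv u, rfl, inv w⟩

theorem conj_even {a b : Perm α} (h : IsConj a b) {u v : α} (huv : u ≠ v) (h1 : a u = v)
    (h2 : a v = u) : ∃ x : Perm α, sign x = 1 ∧ x * a * x⁻¹ = b := by
  obtain ⟨x, hx⟩ := isConj_iff.1 h
  rcases Int.units_eq_one_or (sign x) with e | e
  · exact ⟨x, e, hx⟩
  · refine ⟨x * swap u v, by rw [map_mul, e, sign_swap huv]; decide, ?_⟩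
    have : swap u v * a = a * swap u v := by rw [mul_swap_eq_swap_mul, h1, h2, swap_comm]
    rw [← hx, mul_assoc x, this, mul_inv_rev, swap_inv, mul_assoc, mul_assoc, mul_assoc,
      ← mul_assoc (swap u v), swap_mul_self, one_mul]

/-- good factorisation -/
def GoodFac (σ : Perm α) : Prop :=
  ∃ a a' : Perm α, Good a ∧ sign a = 1 ∧ IsConj a⁻¹ a' ∧ σ = a * a'

theorem goodFac_inv {s t : Perm α} (hs : s * s = 1) (ht : t * t = 1) (h1 : s ≠ 1)
    (h : sign s = 1) (e : s.support.card = t.support.card) : GoodFac (s * t) :=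
  ⟨s, t, good_of_inv hs h1 h, h, by
    rw [inv_eq_of_mul_eq_one_right hs]; exact isConj_inv hs ht e, rfl⟩

theorem dt_facts {a b c d : α} (ab : a ≠ b) (ac : a ≠ c) (ad : a ≠ d) (bc : b ≠ c) (bd : b ≠ d)
    (cd : c ≠ d) : swap a b * swap c d * (swap a b * swap c d) = 1 ∧ swap a b * swap c d ≠ 1 ∧
      sign (swap a b * swap c d) = 1 ∧ (swap a b * swap c d).support.card = 4 := by
  have dj : Perm.Disjoint (swap a b) (swap c d) := by
    intro z
    by_cases e1 : z = a
    · right; rw [e1]; exact swap_apply_of_ne_of_ne ac ad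
    · by_cases e2 : z = b
      · right; rw [e2]; exact swap_apply_of_ne_of_ne bc bd
      · left; exact swap_apply_of_ne_of_ne e1 e2
  have c4 : (swap a b * swap c d).support.card = 4 := by
    rw [dj.card_support_mul, card_support_swap ab, card_support_swap cd]
  refine ⟨?_, fun e => by rw [e] at c4; simp at c4, by
    rw [map_mul, sign_swap ab, sign_swap cd]; decide, c4⟩
  rw [mul_assoc, ← mul_assoc (swap c d), ← dj.commute.eq, mul_assoc, swap_mul_self, mul_one,
    swap_mul_self]

theorem dt_mul {a b c d : α} (ab : a ≠ b) (ac : a ≠ c) (ad : a ≠ d) (bc : b ≠ c) (bd : b ≠ d)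
    (cd : c ≠ d) : swap a b * swap c d * (swap a c * swap b d) = swap a d * swap b c := by
  ext z
  simp only [Perm.mul_apply, swap_apply_def]
  split_ifs <;> simp_all

theorem exists_two_other (h5 : 5 ≤ Fintype.card α) (a b c : α) : ∃ e f : α, e ≠ f ∧
    e ≠ a ∧ e ≠ b ∧ e ≠ c ∧ f ≠ a ∧ f ≠ b ∧ f ≠ c := by
  have h1 : ({a, b, c} : Finset α).card ≤ 3 := Finset.card_le_three
  have h2 : 1 < ({a, b, c} : Finset α)ᶜ.card := by rw [Finset.card_compl]; omega
  obtain ⟨e, he, f, hf, ef⟩ := Finset.one_lt_card.1 h2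
  simp only [Finset.mem_compl, Finset.mem_insert, Finset.mem_singleton, not_or] at he hf
  exact ⟨e, f, ef, he.1, he.2.1, he.2.2, hf.1, hf.2.1, hf.2.2⟩

theorem inv_split {s : Perm α} (hs : s * s = 1) {p : α} (hp : s p ≠ p) :
    ∃ s₀ : Perm α, s₀ * s₀ = 1 ∧ s₀ p = p ∧ s₀ (s p) = s p ∧ s = s₀ * swap p (s p) ∧
      s = swap p (s p) * s₀ ∧ (∀ z, s z = z → s₀ z = z) ∧ s.support.card = s₀.support.card + 2 ∧
      sign s₀ = - sign s := by
  have inv : ∀ z, s (s z) = z := fun z => by rw [← Perm.mul_apply, hs]; rfl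
  have c : s * swap p (s p) = swap p (s p) * s := by rw [mul_swap_eq_swap_mul, inv, swap_comm]
  have f1 : (s * swap p (s p)) p = p := by simp [inv]
  have f2 : (s * swap p (s p)) (s p) = s p := by simp
  have dj : Perm.Disjoint (s * swap p (s p)) (swap p (s p)) := by
    intro z
    by_cases e1 : z = p
    · left; rw [e1, f1]
    · by_cases e2 : z = s p
      · left; rw [e2, f2]
      · right; exact swap_apply_of_ne_of_ne e1 e2
  have e : s = s * swap p (s p) * swap p (s p) := by rw [mul_assoc, swap_mul_self, mul_one]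
  refine ⟨s * swap p (s p), ?_, f1, f2, e, by rw [← dj.commute.eq]; exact e, fun z hz => ?_, ?_, ?_⟩
  · rw [mul_assoc, ← mul_assoc (swap p (s p)), ← c, mul_assoc, swap_mul_self, mul_one, hs]
  · rw [Perm.mul_apply, swap_apply_of_ne_of_ne, hz]
    · rintro rfl; exact hp hz
    · rintro rfl; exact hp (by rw [inv] at hz; exact hz.symm)
  · have := dj.card_support_mul
    rw [← e, card_support_swap hp.symm] at this
    exact this
  · rw [map_mul, sign_swap hp.symm]; simp

theorem goodFac (h5 : 5 ≤ Fintype.card α) (σ : Perm α) (hσ : sign σ = 1) : GoodFac σ := by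
  by_cases h1 : σ = 1
  · obtain ⟨a⟩ : Nonempty α := Fintype.card_pos_iff.1 (by omega)
    obtain ⟨b, c, bc, ba, -, -, ca, -, -⟩ := exists_two_other h5 a a a
    obtain ⟨d, -, -, da, db, dc, -⟩ := exists_two_other h5 a b c
    obtain ⟨k1, k2, k3, -⟩ := dt_facts ba.symm ca.symm da.symm bc db.symm dc.symm
    have := goodFac_inv k1 k1 k2 k3 rfl
    rwa [k1, ← h1] at this
  obtain ⟨p, hp⟩ : ∃ y, σ y ≠ y := by
    by_contra k; push Not at k; exact h1 (Equiv.ext k)
  obtain ⟨s, t, s2, t2, e, -, sp, g, -⟩ := exists_two_inv _ σ le_rfl p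
  have g := g hσ
  have tp : t p ≠ p := fun k => hp (by rw [e, Perm.mul_apply, k, sp])
  obtain ⟨p', tp', sp'⟩ : ∃ p', t p' = p' ∧ s p' ≠ p' := by
    by_contra k; push Not at k
    have h2 : s.support ⊆ t.support := fun z hz => by
      rw [mem_support] at hz ⊢; exact fun k' => hz (k z k')
    have h3 := Finset.eq_of_subset_of_card_le h2 g.ge
    have : p ∈ s.support := by rw [h3, mem_support]; exact tp
    exact mem_support.1 this sp
  rcases Int.units_eq_one_or (sign s) with k | k
  · rw [e]; exact goodFac_inv s2 t2 (fun k' => sp' (by rw [k']; rfl)) k g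
  obtain ⟨s₀, a1, a2, a3, a4, -, a6, a7, a8⟩ := inv_split s2 sp'
  obtain ⟨t₀, b1, b2, b3, -, b5, b6, b7, -⟩ := inv_split t2 tp
  have pp : p ≠ p' := fun k => sp' (k ▸ sp)
  have pq : p ≠ s p' := fun k => pp (s.injective (sp.trans k))
  have pq' : p' ≠ t p := fun k => pp (t.injective (tp'.trans k)).symm
  rw [k, neg_neg] at a8
  by_cases h0 : s₀ = 1
  · have h0' : t₀ = 1 := by
      rw [h0, support_one, Finset.card_empty] at a7
      have : t₀.support.card = 0 := by omega
      simpa using this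
    rw [h0, one_mul] at a4
    rw [h0', mul_one] at b5
    by_cases q : s p' = t p
    · obtain ⟨x, y, xy, x1, x2, x3, y1, y2, y3⟩ := exists_two_other h5 p p' (t p)
      obtain ⟨k1, k2, k3, k4⟩ := dt_facts pq' x2.symm y2.symm x3.symm y3.symm xy
      obtain ⟨l1, -, -, l4⟩ := dt_facts xy x1 x3 y1 y3 tp.symm
      have := goodFac_inv k1 l1 k2 k3 (k4.trans l4.symm)
      rwa [mul_assoc, ← mul_assoc (swap x y), swap_mul_self, one_mul, ← b5, ← q, ← a4, ← e] at this
    · obtain ⟨k1, k2, k3, k4⟩ := dt_facts pq' pp.symm sp'.symm tp (Ne.symm q) pq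
      obtain ⟨l1, -, -, l4⟩ := dt_facts pp.symm pq' sp'.symm tp.symm pq (Ne.symm q)
      have := goodFac_inv k1 l1 k2 k3 (k4.trans l4.symm)
      rwa [dt_mul pq' pp.symm sp'.symm tp (Ne.symm q) pq, swap_comm (t p), ← a4, ← b5, ← e] at this
  · have d1 : Perm.Disjoint (swap p' p * swap p' (s p')) s₀ := by
      intro z
      by_cases e1 : z = p'
      · right; rw [e1, a2]
      · by_cases e2 : z = s p'
        · right; rw [e2, a3]
        · by_cases e3 : z = p
          · right; rw [e3, a6 p sp]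
          · left; rw [Perm.mul_apply, swap_apply_of_ne_of_ne e1 e2, swap_apply_of_ne_of_ne e1 e3]
    have d2 : Perm.Disjoint (swap p p' * swap p (t p)) t₀ := by
      intro z
      by_cases e1 : z = p
      · right; rw [e1, b2]
      · by_cases e2 : z = t p
        · right; rw [e2, b3]
        · by_cases e3 : z = p'
          · right; rw [e3, b6 p' tp']
          · left; rw [Perm.mul_apply, swap_apply_of_ne_of_ne e1 e2, swap_apply_of_ne_of_ne e1 e3]
    refine ⟨s * swap p' p, swap p p' * t, ?_, by rw [map_mul, k, sign_swap pp.symm]; decide, ?_,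
      by rw [swap_comm p, mul_assoc, ← mul_assoc (swap p' p), swap_mul_self, one_mul, e]⟩
    · obtain ⟨u, v, w, y, n1, n2, n3, n4, n5, n6, m1, m2, m3, m4⟩ := good_of_inv a1 h0 a8
      have key : ∀ z, s₀ z ≠ z → (s * swap p' p) z = s₀ z := by
        intro z hz
        have z1 : z ≠ p' := fun k => hz (by rw [k, a2])
        have z2 : z ≠ s p' := fun k => hz (by rw [k, a3])
        have z3 : z ≠ p := fun k => hz (by rw [k, a6 p sp])
        rw [Perm.mul_apply, swap_apply_of_ne_of_ne z1 z3]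
        conv_lhs => rw [a4]
        rw [Perm.mul_apply, swap_apply_of_ne_of_ne z1 z2]
      refine ⟨u, v, w, y, n1, n2, n3, n4, n5, n6, ?_, ?_, ?_, ?_⟩
      · rw [key u (m1 ▸ n1.symm), m1]
      · rw [key v (m2 ▸ n1), m2]
      · rw [key w (m3 ▸ n6.symm), m3]
      · rw [key y (m4 ▸ n6), m4]
    · have e1 : (s * swap p' p)⁻¹ = swap p' p * swap p' (s p') * s₀ := by
        conv_lhs => rw [a4]
        rw [mul_inv_rev, mul_inv_rev, swap_inv, swap_inv, inv_eq_of_mul_eq_one_right a1, mul_assoc]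
      have e2 : swap p p' * t = swap p p' * swap p (t p) * t₀ := by
        rw [mul_assoc, ← b5]
      rw [e1, e2]
      refine Perm.Disjoint.isConj_mul ?_ (isConj_inv a1 b1 (by omega)) d1 d2
      rw [isConj_iff_cycleType_eq,
        (isThreeCycle_swap_mul_swap_same pp.symm sp'.symm pq).cycleType,
        (isThreeCycle_swap_mul_swap_same pp tp.symm pq').cycleType]

variable {G : Type*} [Group G]

/-- central extension of the alternating group by `z` -/
structure DCov (π : G →* Perm α) (z : G) : Prop where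
  z1 : z ≠ 1
  zc : ∀ g, z * g = g * z
  ker : ∀ g, π g = 1 ↔ g = 1 ∨ g = z
  surj : ∀ σ : Perm α, sign σ = 1 → ∃ g, π g = σ
  sgn : ∀ g, sign (π g) = 1
  perf : commutator G = ⊤

variable {π : G →* Perm α} {z : G}

theorem DCov.pz (h : DCov π z) : π z = 1 := (h.ker z).2 (Or.inr rfl)

theorem DCov.z2 (h : DCov π z) : z * z = 1 := by
  rcases (h.ker (z * z)).1 (by rw [map_mul, h.pz, mul_one]) with e | e
  · exact e
  · exact absurd (mul_eq_left.1 e) h.z1

theorem DCov.eq (h : DCov π z) {a b : G} (e : π a = π b) : a = b ∨ a = z * b := by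
  rcases (h.ker (a * b⁻¹)).1 (by rw [map_mul, map_inv, e, mul_inv_cancel]) with k | k
  · exact Or.inl (mul_inv_eq_one.1 k)
  · exact Or.inr (mul_inv_eq_iff_eq_mul.1 k)

theorem DCov.cube (h : DCov π z) (a : G) : (z * a) ^ 3 = z * a ^ 3 := by
  rw [(show Commute z a from h.zc a).mul_pow, pow_succ, pow_two, h.z2, one_mul]

theorem DCov.sq (h : DCov π z) (a : G) : z * a * (z * a) = a * a := by
  rw [mul_assoc, ← mul_assoc a, ← h.zc a, ← mul_assoc, ← mul_assoc, h.z2, one_mul]

theorem DCov.lift3 (h : DCov π z) {σ : Perm α} (h1 : sign σ = 1) (h3 : σ ^ 3 = 1) :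
    ∃ g, π g = σ ∧ g ^ 3 = 1 := by
  obtain ⟨g, hg⟩ := h.surj σ h1
  rcases (h.ker (g ^ 3)).1 (by rw [map_pow, hg, h3]) with e | e
  · exact ⟨g, hg, e⟩
  · exact ⟨z * g, by rw [map_mul, h.pz, one_mul, hg], by rw [h.cube, e, h.z2]⟩

theorem DCov.sq_dt (h : DCov π z) {a b c d : α} (ab : a ≠ b) (ac : a ≠ c) (ad : a ≠ d)
    (bc : b ≠ c) (bd : b ≠ d) (cd : c ≠ d) {g : G} (hg : π g = swap a b * swap c d) :
    g * g = z := by
  obtain ⟨k1, -, -, k4⟩ := dt_facts ab ac ad bc bd cd
  refine ((h.ker (g * g)).1 (by rw [map_mul, hg, k1])).resolve_left fun e => ?_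
  have all : ∀ x : G, π x * π x = 1 → (π x).support.card = 4 → x * x = 1 := by
    intro x x1 x2
    obtain ⟨y, y1, y2⟩ := conj_even (isConj_inv k1 x1 (k4.trans x2.symm)) ab
      (by rw [Perm.mul_apply, swap_apply_of_ne_of_ne ac ad, swap_apply_left])
      (by rw [Perm.mul_apply, swap_apply_of_ne_of_ne bc bd, swap_apply_right])
    obtain ⟨w, rfl⟩ := h.surj y y1
    have e1 : w * g * w⁻¹ * (w * g * w⁻¹) = 1 := by
      calc _ = w * (g * g) * w⁻¹ := by group
        _ = 1 := by rw [e]; group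
    rcases h.eq (a := x) (b := w * g * w⁻¹) (by
      rw [map_mul, map_mul, map_inv, hg, y2]) with k | k
    · rw [k, e1]
    · rw [k, h.sq, e1]
  have ex : ∀ i : α, ∃ x : G, i ≠ a → i ≠ b → π x = c3 a b i ∧ x ^ 3 = 1 := by
    intro i
    by_cases hi : i ≠ a ∧ i ≠ b
    · obtain ⟨x, hx⟩ := h.lift3 (sign_c3 ab hi.1) (c3_cube ab hi.1 hi.2)
      exact ⟨x, fun _ _ => hx⟩
    · exact ⟨1, fun h1 h2 => absurd ⟨h1, h2⟩ hi⟩
  choose x hx using ex
  let S : Set α := {i | i ≠ a ∧ i ≠ b}
  have hπ : ∀ i ∈ S, π (x i) = c3 a b i := fun i hi => (hx i hi.1 hi.2).1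
  have mem : ∀ g : G, g ∈ Subgroup.closure (x '' S) ∨ z * g ∈ Subgroup.closure (x '' S) := by
    intro g
    obtain ⟨g', h1, h2⟩ := carm_surj π ab x S hπ (π g) (h.sgn g)
      (fun y y1 y2 y3 => absurd ⟨y1, y2⟩ y3)
    rcases h.eq h2 with k | k
    · exact Or.inl (k ▸ h1)
    · exact Or.inr (k ▸ h1)
  have le : commutator G ≤ Subgroup.closure (x '' S) := by
    rw [commutator_def, Subgroup.commutator_le]
    intro u _ v _
    have e1 : ∀ u v : G, ⁅z * u, v⁆ = ⁅u, v⁆ := fun u v => by
      rw [commutatorElement_def, commutatorElement_def, mul_inv_rev]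
      calc _ = z * (u * v * u⁻¹) * z⁻¹ * v⁻¹ := by group
        _ = _ := by rw [h.zc]; group
    have e2 : ∀ u v : G, ⁅u, z * v⁆ = ⁅u, v⁆ := fun u v => by
      rw [← commutatorElement_inv, e1, commutatorElement_inv]
    have e3 : ∀ u ∈ Subgroup.closure (x '' S), ∀ v ∈ Subgroup.closure (x '' S),
        ⁅u, v⁆ ∈ Subgroup.closure (x '' S) := fun u hu v hv =>
      mul_mem (mul_mem (mul_mem hu hv) (inv_mem hu)) (inv_mem hv)
    rcases mem u with h1 | h1 <;> rcases mem v with h2 | h2
    · exact e3 _ h1 _ h2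
    · rw [← e2]; exact e3 _ h1 _ h2
    · rw [← e1]; exact e3 _ h1 _ h2
    · rw [← e1, ← e2]; exact e3 _ h1 _ h2
  refine h.z1 (carmichael π ab x S (Set.toFinite _) (fun k => k.1 rfl) (fun k => k.2 rfl) hπ
    (fun i hi => (hx i hi.1 hi.2).2) (fun i hi j hj ij => ?_) (le (h.perf ▸ Subgroup.mem_top z))
    h.pz)
  have e1 : π (x i * x j) = swap b i * swap a j := by
    rw [map_mul, hπ i hi, hπ j hj, c3, c3, ← mul_assoc, swap_comm a i,
      swap_mul_swap_mul_swap hi.1 hi.2]
  obtain ⟨l1, -, -, l4⟩ := dt_facts hi.2.symm ab.symm hj.2.symm hi.1 ij hj.1.symm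
  rw [pow_two]
  exact all _ (by rw [e1, l1]) (by rw [e1, l4])

theorem DCov.comm_disj (h : DCov π z) {g k : G} (hd : Perm.Disjoint (π g) (π k)) :
    g * k = k * g := by
  by_cases h1 : π k = 1
  · rcases (h.ker k).1 h1 with e | e
    · rw [e, mul_one, one_mul]
    · rw [e, h.zc]
  obtain ⟨u, hu⟩ : ∃ y, π k y ≠ y := by
    by_contra k; push Not at k; exact h1 (Equiv.ext k)
  have hv : π k (π k u) ≠ π k u := fun e => hu ((π k).injective e)
  have := mem_of_c3_mem ((Subgroup.centralizer {g}).map π) hu.symm {y | π k y ≠ y} ?_ (π k)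
    (h.sgn k) (fun y _ _ y3 => not_not.1 y3)
  · obtain ⟨k', h2, h3⟩ := this
    have h2 : g * k' = k' * g := h2 g rfl
    rcases h.eq h3.symm with e | e
    · rw [e, h2]
    · rw [e, ← mul_assoc, ← h.zc, mul_assoc, h2, mul_assoc]
  · intro i hi i1 i2
    obtain ⟨x, x1, x3⟩ := h.lift3 (sign_c3 hu.symm i1) (c3_cube hu.symm i1 i2)
    refine ⟨x, ?_, x1⟩
    intro g' hg'
    rw [Set.mem_singleton_iff.1 hg']
    have e : π (g * x * g⁻¹) = π x := by
      rw [map_mul, map_mul, map_inv, x1, conj_c3, (hd u).resolve_right hu,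
        (hd _).resolve_right hv, (hd i).resolve_right hi]
    rcases h.eq e with k | k
    · exact mul_inv_eq_iff_eq_mul.1 k
    · have : (g * x * g⁻¹) ^ 3 = 1 := by rw [conj_pow, x3]; group
      rw [k, h.cube, x3, mul_one] at this
      exact absurd this h.z1

theorem DCov.anti (h : DCov π z) {g : G} (hg : Good (π g)) : ∃ c : G, c * g * c⁻¹ = z * g := by
  obtain ⟨u, v, w, y, n1, n2, n3, n4, n5, n6, m1, m2, m3, m4⟩ := hg
  obtain ⟨d, hd⟩ := h.surj _ (dt_facts n1 n2 n3 n4 n5 n6).2.2.1
  obtain ⟨c, hc⟩ := h.surj _ (dt_facts n2 n1 n3 n4.symm n6 n5).2.2.1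
  have d2 := h.sq_dt n1 n2 n3 n4 n5 n6 hd
  have c2 := h.sq_dt n2 n1 n3 n4.symm n6 n5 hc
  have dc2 := h.sq_dt n3 n1 n2 n5.symm n6.symm n4 (g := d * c)
    (by rw [map_mul, hd, hc, dt_mul n1 n2 n3 n4 n5 n6])
  have e1 : c * d = z * (d * c) := by
    have : d * (c * d) * c = d * (z * (d * c)) * c := by
      calc _ = d * c * (d * c) := by group
        _ = z * (d * d) * (c * c) := by rw [dc2, d2, c2, h.z2, one_mul]
        _ = (z * d) * (d * c) * c := by group
        _ = _ := by rw [h.zc]; group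
    exact mul_left_cancel (mul_right_cancel this)
  have e2 : c * (d * g) = d * g * c := by
    refine h.comm_disj fun x => ?_
    rw [hc, map_mul, hd]
    simp only [Perm.mul_apply]
    by_cases x1 : x = u
    · right; rw [x1, m1, swap_apply_of_ne_of_ne n4 n5, swap_apply_right]
    by_cases x2 : x = v
    · right; rw [x2, m2, swap_apply_of_ne_of_ne n2 n3, swap_apply_left]
    by_cases x3 : x = w
    · right; rw [x3, m3, swap_apply_right, swap_apply_of_ne_of_ne n2.symm n4.symm]
    by_cases x4 : x = y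
    · right; rw [x4, m4, swap_apply_left, swap_apply_of_ne_of_ne n3.symm n5.symm]
    left; rw [swap_apply_of_ne_of_ne x2 x4, swap_apply_of_ne_of_ne x1 x3]
  refine ⟨c, mul_inv_eq_iff_eq_mul.2 (mul_left_cancel (a := z * d) ?_)⟩
  calc z * d * (c * g) = c * (d * g) := by
        rw [← mul_assoc c, e1]; group
    _ = z * z * (d * g * c) := by rw [e2, h.z2, one_mul]
    _ = z * (z * d) * g * c := by group
    _ = z * (d * z) * g * c := by rw [h.zc d]
    _ = _ := by group

theorem DCov.comm (h : DCov π z) (h5 : 5 ≤ Fintype.card α) (g : G) :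
    ∃ a b : G, a * b * a⁻¹ * b⁻¹ = g := by
  obtain ⟨a, a', h1, h2, h3, h4⟩ := goodFac h5 (π g) (h.sgn g)
  obtain ⟨a, rfl⟩ := h.surj a h2
  obtain ⟨c, hc⟩ := h.anti h1
  obtain ⟨u, v, -, -, n1, -, -, -, -, -, m1, m2, -⟩ := h1
  obtain ⟨x, x1, x2⟩ := conj_even h3 n1 (by rw [Perm.inv_eq_iff_eq, m2])
    (by rw [Perm.inv_eq_iff_eq, m1])
  obtain ⟨x, rfl⟩ := h.surj x x1
  rcases h.eq (a := a * x * a⁻¹ * x⁻¹) (b := g) (by
    rw [h4, ← x2]; simp only [map_mul, map_inv, mul_assoc]) with e | e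
  · exact ⟨a, x, e⟩
  · refine ⟨a, x * c, ?_⟩
    calc _ = a * x * (c * a * c⁻¹)⁻¹ * x⁻¹ := by group
      _ = a * x * a⁻¹ * (x * z)⁻¹ := by rw [hc]; group
      _ = a * x * a⁻¹ * x⁻¹ * z⁻¹ := by rw [← h.zc]; group
      _ = g := by rw [e, h.zc]; group

theorem comm_of_double_cover [Finite G] (hperf : commutator G = ⊤) {n : ℕ} (hn : 5 ≤ n)
    (hZ : Nat.card (Subgroup.center G) = 2)
    (e : G ⧸ Subgroup.center G ≃* alternatingGroup (Fin n)) (g : G) :
    ∃ a b : G, a * b * a⁻¹ * b⁻¹ = g := by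
  obtain ⟨z, hz, hu⟩ := (Nat.card_eq_two_iff' (1 : Subgroup.center G)).1 hZ
  have : DCov ((alternatingGroup (Fin n)).subtype.comp
      (e.toMonoidHom.comp (QuotientGroup.mk' (Subgroup.center G)))) (z : G) := by
    refine ⟨fun k => hz (Subtype.ext k), fun g => (Subgroup.mem_center_iff.1 z.2 g).symm,
      fun g => ?_, fun σ hσ => ?_, fun g => mem_alternatingGroup.1 (Subtype.prop _), hperf⟩
    · have : ((alternatingGroup (Fin n)).subtype.comp
          (e.toMonoidHom.comp (QuotientGroup.mk' (Subgroup.center G)))) g = 1 ↔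
          g ∈ Subgroup.center G := by simp
      rw [this]
      constructor
      · intro hg
        by_cases k : (⟨g, hg⟩ : Subgroup.center G) = 1
        · exact Or.inl (congrArg Subtype.val k)
        · exact Or.inr (congrArg Subtype.val (hu _ k))
      · rintro (rfl | rfl)
        · exact one_mem _
        · exact z.2
    · obtain ⟨g, hg⟩ := QuotientGroup.mk'_surjective (Subgroup.center G)
        (e.symm ⟨σ, mem_alternatingGroup.2 hσ⟩)
      exact ⟨g, by
        rw [MonoidHom.comp_apply, MonoidHom.comp_apply, hg]; simp⟩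
  exact this.comm (by simpa using hn) g

end Cfsg.Agent.PermB
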