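import Cfsg.Agent.PermB.DCov

/-! Pairs of `p`-elements of alternating groups generating non-solvable subgroups, I. -/

set_option autoImplicit false

open Equiv Equiv.Perm
open scoped commutatorElement

namespace Cfsg.Agent.PermB

/-- every subgroup containing `a`, `b` is non-solvable -/
def NS {G : Type*} [Group G] (a b : G) : Prop :=
  ∀ K : Subgroup G, a ∈ K → b ∈ K → ¬ Group.IsSolvable K

section grp
variable {G : Type*} [Group G]

theorem NS.symm {a b : G} (h : NS a b) : NS b a := fun K h1 h2 => h K h2 h1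

theorem NS.of_mem {a b c d : G} (h : NS c d)
    (h' : ∀ K : Subgroup G, a ∈ K → b ∈ K → c ∈ K ∧ d ∈ K) : NS a b :=
  fun K h1 h2 => h K (h' K h1 h2).1 (h' K h1 h2).2

theorem NS.of_map {H : Type*} [Group H] (f : G →* H) {a b : G} (h : NS (f a) (f b)) : NS a b := by
  intro K h1 h2 hs
  exact h (K.map f) ⟨a, h1, rfl⟩ ⟨b, h2, rfl⟩
    (Group.isSolvable_of_surjective (f.subgroupMap_surjective K))

/-- evaluation of a positive word -/
def evW (l : List Bool) (a b : G) : G := (l.map fun c => cond c a b).prod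

theorem evW_mem (l : List Bool) {a b : G} {K : Subgroup G} (ha : a ∈ K) (hb : b ∈ K) :
    evW l a b ∈ K := by
  refine K.list_prod_mem ?_
  intro x hx
  obtain ⟨c, -, rfl⟩ := List.mem_map.1 hx
  cases c
  · exact hb
  · exact ha

theorem ns_cert {a b : G} (x s t : List Bool) (h1 : evW x a b ≠ 1)
    (h2 : evW s a b * evW x a b * (evW s a b)⁻¹ * (evW t a b * evW x a b * (evW t a b)⁻¹) =
      evW x a b * (evW t a b * evW x a b * (evW t a b)⁻¹ *
        (evW s a b * evW x a b * (evW s a b)⁻¹))) : NS a b := by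
  intro K ha hb
  let X : K := ⟨_, evW_mem x ha hb⟩
  let S : K := ⟨_, evW_mem s ha hb⟩
  let T : K := ⟨_, evW_mem t ha hb⟩
  have e : S * X * S⁻¹ * (T * X * T⁻¹) = X * (T * X * T⁻¹ * (S * X * S⁻¹)) := Subtype.ext h2
  have key : X = ⁅S * X * S⁻¹, T * X * T⁻¹⁆ := by
    rw [commutatorElement_def, e]; group
  refine not_isSolvable_of_mem_derivedSeries (g := X) (fun k => h1 (congrArg Subtype.val k))
    fun n => ?_
  induction n with
  | zero => exact Subgroup.mem_top X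
  | succ n ih =>
    rw [key]
    exact Subgroup.commutator_mem_commutator ((derivedSeries_normal _ _).conj_mem _ ih _)
      ((derivedSeries_normal _ _).conj_mem _ ih _)

end grp

variable {α β : Type*}

/-- `v` acts on the image of `e` as `V` -/
def Sc (e : β → α) (V : Perm β) (v : Perm α) : Prop := ∀ i, v (e i) = e (V i)

theorem Sc.mul {e : β → α} {V W : Perm β} {v w : Perm α} (h : Sc e V v) (h' : Sc e W w) :
    Sc e (V * W) (v * w) := fun i => by rw [Perm.mul_apply, h', h, Perm.mul_apply]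

theorem Sc.inv {e : β → α} {V : Perm β} {v : Perm α} (h : Sc e V v) : Sc e V⁻¹ v⁻¹ := fun i => by
  rw [Perm.inv_eq_iff_eq, h]; simp

theorem Sc.pow {e : β → α} {V : Perm β} {v : Perm α} (h : Sc e V v) (m : ℕ) :
    Sc e (V ^ m) (v ^ m) := by
  induction m with
  | zero => intro i; simp
  | succ m ih => rw [pow_succ, pow_succ]; exact ih.mul h

theorem Sc.conj {e e' : β → α} {W τ : Perm β} {w g : Perm α} (h : Sc e' W w)
    (hg : ∀ i, g (e' i) = e (τ i)) : Sc e (τ * W * τ⁻¹) (g * w * g⁻¹) := fun i => by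
  have : g⁻¹ (e i) = e' (τ⁻¹ i) := by rw [Perm.inv_eq_iff_eq, hg]; simp
  rw [Perm.mul_apply, Perm.mul_apply, this, h, hg]; rfl

theorem Sc.swap [DecidableEq α] [DecidableEq β] {e : β → α} (he : Function.Injective e) (i j : β) :
    Sc e (swap i j) (swap (e i) (e j)) := fun k => he.swap_apply i j k

theorem NS.of_sc {e : β → α} (he : Function.Injective e) {U W : Perm β} {u w : Perm α}
    (hu : Sc e U u) (hw : Sc e W w) (h : NS U W) : NS u w := by
  intro K h1 h2 hs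
  let P : Subgroup (K × Perm β) :=
    { carrier := {q | Sc e q.2 q.1}
      one_mem' := fun i => rfl
      mul_mem' := fun ha hb => Sc.mul ha hb
      inv_mem' := fun ha => Sc.inv ha }
  have : Group.IsSolvable P := by
    refine Group.isSolvable_of_isSolvable_injective
      (f := (MonoidHom.fst K (Perm β)).comp P.subtype) ?_
    rw [injective_iff_map_eq_one]
    rintro ⟨⟨k, k'⟩, hk⟩ e1
    obtain rfl : k = 1 := e1
    have : k' = 1 := Equiv.ext fun i => he (hk i).symm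
    subst this; rfl
  exact h ((MonoidHom.snd K (Perm β)).comp P.subtype).range ⟨⟨(⟨u, h1⟩, U), hu⟩, rfl⟩
    ⟨⟨(⟨w, h2⟩, W), hw⟩, rfl⟩
    (Group.isSolvable_of_surjective (MonoidHom.rangeRestrict_surjective _))

theorem conj_apply (g w : Perm α) (x : α) : (g * w * g⁻¹) (g x) = g (w x) := by simp

/-- not of `p`-power order -/
def NP (p : ℕ) (h : Perm α) : Prop := ∀ k : ℕ, h ^ p ^ k ≠ 1

theorem np_of {p m : ℕ} {h : Perm α} {x : α} (hm : m.Coprime p) (h1 : (h ^ m) x = x)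
    (h2 : h x ≠ x) : NP p h := by
  intro k hk
  have a1 : MulAction.period h x ∣ m := MulAction.pow_smul_eq_iff_period_dvd.1 h1
  have a2 : MulAction.period h x ∣ p ^ k := MulAction.pow_smul_eq_iff_period_dvd.1 (by
    rw [hk, one_smul])
  have a3 := Nat.dvd_gcd a1 a2
  rw [Nat.Coprime.gcd_eq_one (hm.pow_right k)] at a3
  have := MulAction.pow_smul_eq_iff_period_dvd.2 a3
  rw [pow_one] at this
  exact h2 this

theorem NP.of_pow {p : ℕ} {h : Perm α} (m : ℕ) (h1 : NP p (h ^ m)) : NP p h := fun k hk =>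
  h1 k (by rw [← pow_mul, mul_comm, pow_mul, hk, one_pow])

theorem np_two {p : ℕ} (hp : p.Prime) (hp3 : 3 ≤ p) {h : Perm α} {x y : α} (h1 : h x = y)
    (h2 : h y = x) (h3 : x ≠ y) : NP p h :=
  np_of (m := 2) (x := x) ((Nat.coprime_primes Nat.prime_two hp).2 (by omega))
    (by rw [pow_two, Perm.mul_apply, h1, h2]) (by rw [h1]; exact h3.symm)

variable [DecidableEq α] [Fintype α]

/-- the conclusion -/
def Goal (p : ℕ) (u w : Perm α) : Prop :=
  ∃ g : Perm α, sign g = 1 ∧ NP p (u * (g * w * g⁻¹)) ∧ NS u (g * w * g⁻¹)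

theorem Goal.symm {p : ℕ} {u w : Perm α} (h : Goal p w u) : Goal p u w := by
  obtain ⟨g, h1, h2, h3⟩ := h
  refine ⟨g⁻¹, by rw [map_inv, h1, inv_one], fun k hk => h2 k ?_, ?_⟩
  · have : w * (g * u * g⁻¹) = (w * g) * (u * (g⁻¹ * w * g⁻¹⁻¹)) * (w * g)⁻¹ := by group
    rw [this, conj_pow, hk]; group
  · refine NS.of_map (MulAut.conj g).toMonoidHom ?_
    have : (MulAut.conj g).toMonoidHom (g⁻¹ * w * g⁻¹⁻¹) = w := by
      simp [mul_assoc]
    rw [this]; exact h3.symm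

theorem exists_even_two [DecidableEq β] [Fintype β] {e e' : β → α} (he : Function.Injective e)
    (he' : Function.Injective e') {τ₁ τ₂ : Perm β} (h1 : sign τ₁ = 1) (h2 : sign τ₂ = -1) :
    ∃ g : Perm α, sign g = 1 ∧ ∃ τ, (τ = τ₁ ∨ τ = τ₂) ∧ ∀ i, g (e' i) = e (τ i) := by
  obtain ⟨g, hg⟩ := Perm.exists_extending_pair e' e he' he
  have key : ∀ τ : Perm β, ∀ i, (τ.viaFintypeEmbedding ⟨e, he⟩ * g) (e' i) = e (τ i) := by
    intro τ i
    rw [Perm.mul_apply, hg]
    exact viaFintypeEmbedding_apply_image τ ⟨e, he⟩ i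
  rcases Int.units_eq_one_or (sign g) with k | k
  · exact ⟨_, by rw [map_mul, viaFintypeEmbedding_sign, h1, k, mul_one], τ₁, Or.inl rfl, key τ₁⟩
  · exact ⟨_, by rw [map_mul, viaFintypeEmbedding_sign, h2, k]; decide, τ₂, Or.inr rfl, key τ₂⟩

theorem goal_tot [DecidableEq β] [Fintype β] {p m : ℕ} (hm : m.Coprime p) {e e' : β → α}
    (he : Function.Injective e) (he' : Function.Injective e') {U W : Perm β} {u w : Perm α}
    (hu : Sc e U u) (hw : Sc e' W w) (τ₁ τ₂ : Perm β) (h1 : sign τ₁ = 1) (h2 : sign τ₂ = -1)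
    (h : ∀ τ, (τ = τ₁ ∨ τ = τ₂) → NS U (τ * W * τ⁻¹) ∧
      ∃ i, ((U * (τ * W * τ⁻¹)) ^ m) i = i ∧ (U * (τ * W * τ⁻¹)) i ≠ i) : Goal p u w := by
  obtain ⟨g, g1, τ, g2, g3⟩ := exists_even_two he he' h1 h2
  obtain ⟨k1, i, k2, k3⟩ := h τ g2
  have s := hw.conj g3
  refine ⟨g, g1, np_of (x := e i) hm ?_ ?_, k1.of_sc he hu s⟩
  · rw [(hu.mul s).pow m i, k2]
  · rw [hu.mul s i]; exact fun k => k3 (he k)

theorem goal_part [DecidableEq β] [Fintype β] {p : ℕ} (hp : p.Prime) (hp3 : 3 ≤ p) {e e' : β → α}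
    (he : Function.Injective e) (he' : Function.Injective e') {U W : Perm β} {u w : Perm α}
    {m m' : ℕ} (hu : Sc e U (u ^ m)) (hw : Sc e' W (w ^ m')) (A A' : β → β) (D D' : β → Prop)
    (hA : ∀ i, D i → u (e i) = e (A i)) (hA' : ∀ i, D' i → w (e' i) = e' (A' i))
    (τ₁ τ₂ : Perm β) (h1 : sign τ₁ = 1) (h2 : sign τ₂ = -1)
    (h : ∀ τ, (τ = τ₁ ∨ τ = τ₂) → NS U (τ * W * τ⁻¹) ∧
      ∃ i j, i ≠ j ∧ D' i ∧ D' j ∧ D (τ (A' i)) ∧ D (τ (A' j)) ∧ A (τ (A' i)) = τ j ∧
        A (τ (A' j)) = τ i) : Goal p u w := by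
  obtain ⟨g, g1, τ, g2, g3⟩ := exists_even_two he he' h1 h2
  obtain ⟨k1, i, j, ij, d1, d2, d3, d4, a1, a2⟩ := h τ g2
  have s := hw.conj g3
  have key : ∀ i, D' i → D (τ (A' i)) → (u * (g * w * g⁻¹)) (e (τ i)) = e (A (τ (A' i))) := by
    intro i d d'
    rw [← g3, Perm.mul_apply, conj_apply, hA' i d, g3, hA _ d']
  refine ⟨g, g1, np_two hp hp3 (x := e (τ i)) (y := e (τ j)) (by rw [key i d1 d3, a1])
    (by rw [key j d2 d4, a2]) fun k => ij (τ.injective (he k)), ?_⟩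
  refine (k1.of_sc he hu s).of_mem fun K h1 h2 => ⟨pow_mem h1 m, ?_⟩
  rw [← conj_pow]; exact pow_mem h2 m'

theorem exists_std {p k : ℕ} (hp : p.Prime) {v : Perm α} (hv : v ^ p ^ k = 1) (h1 : v ≠ 1) :
    ∃ b : ℕ, ∃ E : ZMod p → α, Function.Injective E ∧ v ^ p ^ (b + 1) = 1 ∧
      Sc E (Equiv.addRight 1) (v ^ p ^ b) ∧
      ∀ (r : ℤ) (i j : ZMod p), (v ^ r) (E i) = E j → (p ^ b : ℤ) ∣ r := by
  have : NeZero p := ⟨hp.ne_zero⟩
  have ex : ∃ k, v ^ p ^ k = 1 := ⟨k, hv⟩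
  have f1 := Nat.find_spec ex
  obtain ⟨b, hb⟩ : ∃ b, Nat.find ex = b + 1 := by
    refine Nat.exists_eq_succ_of_ne_zero fun k => h1 ?_
    rw [k] at f1; simpa using f1
  have f2 : v ^ p ^ b ≠ 1 := Nat.find_min ex (by omega)
  rw [hb] at f1
  obtain ⟨x, hx⟩ : ∃ y, (v ^ p ^ b) y ≠ y := by
    by_contra k; push Not at k; exact f2 (Equiv.ext k)
  have per : MulAction.period v x = p ^ (b + 1) := by
    have a1 : MulAction.period v x ∣ p ^ (b + 1) := MulAction.pow_smul_eq_iff_period_dvd.1 (by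
      rw [f1, one_smul])
    obtain ⟨c, c1, c2⟩ := (Nat.dvd_prime_pow hp).1 a1
    rw [c2]
    by_contra k
    have : c ≤ b := by
      by_contra k'
      exact k (by rw [show c = b + 1 by omega])
    exact hx (MulAction.pow_smul_eq_iff_period_dvd.2 (c2 ▸ pow_dvd_pow p this))
  have key : ∀ r s : ℤ, (v ^ r) x = (v ^ s) x ↔ (p ^ b * p : ℤ) ∣ r - s := by
    intro r s
    have := MulAction.zpow_smul_eq_iff_period_dvd (j := r - s) (g := v) (a := x)
    rw [per] at this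
    push_cast at this
    rw [← pow_succ, ← this, Perm.smul_def, sub_eq_neg_add, zpow_add, zpow_neg, Perm.mul_apply,
      Perm.inv_eq_iff_eq]
  have p0 : (p ^ b : ℤ) ≠ 0 := pow_ne_zero _ (by exact_mod_cast hp.ne_zero)
  refine ⟨b, fun i => (v ^ (p ^ b * i.val : ℤ)) x, fun i j h => ?_, f1, fun i => ?_,
    fun r i j h => ?_⟩
  · rw [key, ← mul_sub, mul_dvd_mul_iff_left p0, ← ZMod.intCast_zmod_eq_zero_iff_dvd] at h
    simpa [sub_eq_zero] using h
  · rw [← Perm.mul_apply, ← zpow_natCast, ← zpow_add, key]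
    push_cast
    rw [← mul_one_add, ← mul_sub, mul_dvd_mul_iff_left p0, ← ZMod.intCast_zmod_eq_zero_iff_dvd]
    simp [add_comm]
  · rw [← Perm.mul_apply, ← zpow_add, key] at h
    have := (dvd_mul_right _ _).trans h
    rwa [add_sub_assoc, ← mul_sub, dvd_add_left (dvd_mul_right _ _)] at this

end Cfsg.Agent.PermB
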