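import Cfsg.Agent.PermB.PEl

/-! Pairs of `p`-elements of alternating groups generating non-solvable subgroups, II. -/

set_option autoImplicit false

open Equiv Equiv.Perm

namespace Cfsg.Agent.PermB

variable {α : Type*} [DecidableEq α] [Fintype α]

/-- layered permutations of order 3 -/
def lay {L : ℕ} (b : Fin L → Bool) : Perm (Fin L × Fin 3) :=
  Equiv.prodShear (Equiv.refl _) (fun l => cond (b l) (Equiv.addRight 1) 1)

theorem lay_apply {L : ℕ} (b : Fin L → Bool) (l : Fin L) (i : Fin 3) :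
    lay b (l, i) = (l, cond (b l) (i + 1) i) := by
  simp only [lay, prodShear_apply, refl_apply]
  cases b l <;> rfl

theorem inj3 {γ : Type*} {a b c : γ} (ab : a ≠ b) (ac : a ≠ c) (bc : b ≠ c) :
    Function.Injective ![a, b, c] := by
  intro i j
  fin_cases i <;> fin_cases j <;> simp [ab, ac, bc, ab.symm, ac.symm, bc.symm]

theorem inj5 {γ : Type*} {a b c d e : γ} (ab : a ≠ b) (ac : a ≠ c) (ad : a ≠ d) (ae : a ≠ e)
    (bc : b ≠ c) (bd : b ≠ d) (be : b ≠ e) (cd : c ≠ d) (ce : c ≠ e) (de : d ≠ e) :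
    Function.Injective ![a, b, c, d, e] := by
  intro i j
  fin_cases i <;> fin_cases j <;> simp [ab, ac, bc, ab.symm, ac.symm, bc.symm, ad, ae, bd, be, cd,
    ce, de, ad.symm, ae.symm, bd.symm, be.symm, cd.symm, ce.symm, de.symm]

theorem exists_layer {v : Perm α} (hv : v ^ 3 = 1) (S : Finset α) (hS : ∀ z ∈ S, v z ∈ S)
    (hc : S.card + 3 ≤ Fintype.card α ∨ ∃ z ∉ S, v z ≠ z) :
    ∃ c : Bool, ∃ Y : Fin 3 → α, Function.Injective Y ∧ (∀ i, Y i ∉ S) ∧
      (∀ i, v (Y i) = Y (cond c (i + 1) i)) ∧ ((∃ z ∉ S, v z ≠ z) → c = true) := by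
  have h3 : ∀ z, v (v (v z)) = z := fun z => by
    have := congrArg (fun f : Perm α => f z) hv
    simpa [pow_succ] using this
  by_cases h : ∃ z ∉ S, v z ≠ z
  · obtain ⟨z, z1, z2⟩ := h
    have n1 : v (v z) ≠ v z := fun k => z2 (v.injective k)
    have n2 : v (v z) ≠ z := fun k => z2 (by have := h3 z; rwa [k] at this)
    refine ⟨true, ![z, v z, v (v z)], inj3 z2.symm n2.symm n1.symm, ?_, ?_, fun _ => rfl⟩
    · intro i hi
      fin_cases i
      · exact z1 hi
      · exact z1 (h3 z ▸ hS _ (hS _ hi))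
      · exact z1 (h3 z ▸ hS _ hi)
    · intro i
      fin_cases i
      · rfl
      · rfl
      · exact h3 z
  · have h2 : 2 < Sᶜ.card := by rw [Finset.card_compl]; have := hc.resolve_right h; omega
    obtain ⟨a, b, c, ha, hb, hc, ab, ac, bc⟩ := Finset.two_lt_card_iff.1 h2
    rw [Finset.mem_compl] at ha hb hc
    have key : ∀ i, ![a, b, c] i ∉ S := by
      intro i; fin_cases i <;> assumption
    refine ⟨false, ![a, b, c], inj3 ab ac bc, key, fun i => ?_, fun k => absurd k h⟩
    by_contra k; exact h ⟨_, key i, k⟩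

theorem model_lay {L : ℕ} {v : Perm α} (b : Fin L → Bool) (Y : Fin L → Fin 3 → α)
    (h1 : ∀ l, Function.Injective (Y l)) (h2 : ∀ l l', l < l' → ∀ i j, Y l i ≠ Y l' j)
    (h3 : ∀ l i, v (Y l i) = Y l (cond (b l) (i + 1) i)) :
    ∃ e : Fin L × Fin 3 → α, Function.Injective e ∧ Sc e (lay b) v := by
  refine ⟨fun q => Y q.1 q.2, ?_, ?_⟩
  · rintro ⟨l, i⟩ ⟨l', j⟩ h
    simp only at h
    rcases lt_trichotomy l l' with k | rfl | k
    · exact absurd h (h2 _ _ k _ _)
    · rw [h1 l h]
    · exact absurd h.symm (h2 _ _ k _ _)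
  · rintro ⟨l, i⟩
    rw [lay_apply]; exact h3 l i

theorem layer_inv {v : Perm α} {c : Bool} {Y : Fin 3 → α}
    (h : ∀ i, v (Y i) = Y (cond c (i + 1) i)) :
    ∀ z ∈ Finset.univ.image Y, v z ∈ Finset.univ.image Y := by
  intro z hz
  obtain ⟨i, -, rfl⟩ := Finset.mem_image.1 hz
  rw [h]; exact Finset.mem_image_of_mem _ (Finset.mem_univ _)

theorem card_layer (Y : Fin 3 → α) : (Finset.univ.image Y).card ≤ 3 :=
  Finset.card_image_le.trans (by simp)

theorem layer0 {v : Perm α} (hv : v ^ 3 = 1) (h1 : v ≠ 1) :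
    ∃ Y : Fin 3 → α, Function.Injective Y ∧ ∀ i, v (Y i) = Y (cond true (i + 1) i) := by
  have : ∃ z ∉ (∅ : Finset α), v z ≠ z := by
    by_contra k; push Not at k; exact h1 (Equiv.ext fun z => k z (by simp))
  obtain ⟨c, Y, a1, -, a3, a4⟩ := exists_layer hv ∅ (by simp) (Or.inr this)
  obtain rfl := a4 this
  exact ⟨Y, a1, a3⟩

theorem model2_aux {v : Perm α} (hv : v ^ 3 = 1) {Y : Fin 3 → α} (a1 : Function.Injective Y)
    (a3 : ∀ i, v (Y i) = Y (cond true (i + 1) i))
    (hc : 6 ≤ Fintype.card α ∨ ∃ z ∉ Finset.univ.image Y, v z ≠ z) :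
    ∃ b, ∃ e : Fin 2 × Fin 3 → α, Function.Injective e ∧ Sc e (lay ![true, b]) v := by
  obtain ⟨c, Y', b1, b2, b3, -⟩ := exists_layer hv _ (layer_inv a3)
    (hc.imp_left fun k => by have := card_layer Y; omega)
  refine ⟨c, model_lay _ ![Y, Y'] ?_ ?_ ?_⟩
  · intro l; fin_cases l <;> assumption
  · intro l l' h i j
    fin_cases l <;> fin_cases l' <;> simp at h
    exact fun k => b2 j (Finset.mem_image.2 ⟨i, Finset.mem_univ _, k⟩)
  · intro l; fin_cases l <;> assumption

theorem model2 {v : Perm α} (hv : v ^ 3 = 1) (h1 : v ≠ 1) (hc : 6 ≤ Fintype.card α) :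
    ∃ b, ∃ e : Fin 2 × Fin 3 → α, Function.Injective e ∧ Sc e (lay ![true, b]) v := by
  obtain ⟨Y, a1, a3⟩ := layer0 hv h1
  exact model2_aux hv a1 a3 (Or.inl hc)

theorem model3 {v : Perm α} (hv : v ^ 3 = 1) (h1 : v ≠ 1) (hc : 9 ≤ Fintype.card α) :
    ∃ b c, ∃ e : Fin 3 × Fin 3 → α, Function.Injective e ∧ Sc e (lay ![true, b, c]) v := by
  obtain ⟨Y, a1, a3⟩ := layer0 hv h1
  have := card_layer Y
  obtain ⟨c, Y', b1, b2, b3, -⟩ := exists_layer hv _ (layer_inv a3) (Or.inl (by omega))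
  have := card_layer Y'
  obtain ⟨c', Y'', c1, c2, c3, -⟩ := exists_layer hv (Finset.univ.image Y ∪ Finset.univ.image Y')
    (fun z hz => by
      rw [Finset.mem_union] at hz ⊢
      exact hz.imp (layer_inv a3 z) (layer_inv b3 z))
    (Or.inl (by have := Finset.card_union_le (Finset.univ.image Y) (Finset.univ.image Y'); omega))
  refine ⟨c, c', model_lay _ ![Y, Y', Y''] ?_ ?_ ?_⟩
  · intro l; fin_cases l <;> assumption
  · intro l l' h i j
    fin_cases l <;> fin_cases l' <;> simp at h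
    · exact fun k => b2 j (Finset.mem_image.2 ⟨i, Finset.mem_univ _, k⟩)
    · exact fun k => c2 j (Finset.mem_union_left _ (Finset.mem_image.2 ⟨i, Finset.mem_univ _, k⟩))
    · exact fun k => c2 j (Finset.mem_union_right _ (Finset.mem_image.2 ⟨i, Finset.mem_univ _, k⟩))
  · intro l; fin_cases l <;> assumption

theorem model5 {v : Perm α} (hv : v ^ 3 = 1) (h1 : v ≠ 1) (hc : Fintype.card α = 5) :
    ∃ e : Fin 5 → α, Function.Injective e ∧ Sc e (swap 0 2 * swap 0 1) v := by
  obtain ⟨Y, a1, a3⟩ := layer0 hv h1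
  have f : ∀ z, z ≠ Y 0 → z ≠ Y 1 → z ≠ Y 2 → v z = z := by
    intro z z0 z1 z2
    by_contra k
    obtain ⟨b, e, he, -⟩ := model2_aux hv a1 a3 (Or.inr ⟨z, fun hz => by
      obtain ⟨i, -, rfl⟩ := Finset.mem_image.1 hz
      fin_cases i <;> simp_all, k⟩)
    have := Fintype.card_le_of_injective e he
    simp at this; omega
  obtain ⟨x, y, xy, x0, x1, x2, y0, y1, y2⟩ := exists_two_other hc.ge (Y 0) (Y 1) (Y 2)
  refine ⟨![Y 0, Y 1, Y 2, x, y], ?_, ?_⟩
  · exact inj5 (a1.ne (by decide)) (a1.ne (by decide)) x0.symm y0.symm (a1.ne (by decide)) x1.symm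
      y1.symm x2.symm y2.symm xy
  · intro i
    fin_cases i
    · exact a3 0
    · exact a3 1
    · exact a3 2
    · exact f x x0 x1 x2
    · exact f y y0 y1 y2

theorem model_deep {v : Perm α} {b : ℕ} {E : ZMod 3 → α} (h1 : Function.Injective E)
    (h2 : Sc E (Equiv.addRight 1) (v ^ 3 ^ (b + 1)))
    (h3 : ∀ (r : ℤ) (i j : ZMod 3), (v ^ r) (E i) = E j → ((3 : ℕ) ^ (b + 1) : ℤ) ∣ r) :
    ∃ e : Fin 3 × Fin 3 → α, Function.Injective e ∧
      Sc e (lay ![true, true, true]) (v ^ 3 ^ (b + 1)) ∧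
      ∀ q : Fin 3 × Fin 3, q.1 < 2 → v (e q) = e (q.1 + 1, q.2) := by
  refine ⟨fun q => (v ^ (q.1 : ℕ)) (E q.2), ?_, ?_, ?_⟩
  · rintro ⟨l, i⟩ ⟨l', j⟩ h
    simp only at h
    have k : (v ^ (-(l' : ℕ) + (l : ℕ) : ℤ)) (E i) = E j := by
      rw [zpow_add, zpow_neg, Perm.mul_apply, Perm.inv_eq_iff_eq, zpow_natCast, zpow_natCast, h]
    have k' := (Dvd.intro_left _ (pow_succ _ _).symm).trans (h3 _ _ _ k)
    obtain rfl : l = l' := by
      have := l.2; have := l'.2; ext; omega
    rw [h1 ((v ^ (l : ℕ)).injective h)]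
  · rintro ⟨l, i⟩
    have : (![true, true, true] : Fin 3 → Bool) l = true := by fin_cases l <;> rfl
    rw [lay_apply, this]
    simp only [cond_true]
    rw [← Perm.mul_apply, ← pow_add, add_comm, pow_add, Perm.mul_apply]
    exact congrArg _ (h2 i)
  · rintro ⟨l, i⟩ h
    have : ((l + 1 : Fin 3) : ℕ) = l + 1 := by
      fin_cases l
      · rfl
      · rfl
      · simp at h
    simp only
    rw [this, pow_succ', Perm.mul_apply]

theorem goal3_five {u w : Perm α} (hu : u ^ 3 = 1) (hw : w ^ 3 = 1) (u1 : u ≠ 1) (w1 : w ≠ 1)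
    (hc : Fintype.card α = 5) : Goal 3 u w := by
  obtain ⟨e, a1, a2⟩ := model5 hu u1 hc
  obtain ⟨e', b1, b2⟩ := model5 hw w1 hc
  refine goal_tot (m := 20) (by norm_num) a1 b1 a2 b2
    (swap 1 3 * swap 2 4) (swap 1 3 * swap 2 4 * swap 3 4) (by decide +kernel) (by decide +kernel) ?_
  rintro τ (rfl | rfl)
  · exact ⟨ns_cert [true, false] [false, true] [false] (by decide +kernel) (by decide +kernel),
      0, by decide +kernel⟩
  · exact ⟨ns_cert [true, false] [false, true] [false] (by decide +kernel) (by decide +kernel),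
      0, by decide +kernel⟩

theorem goal3_six {u w : Perm α} (hu : u ^ 3 = 1) (hw : w ^ 3 = 1) (u1 : u ≠ 1) (w1 : w ≠ 1)
    (hc : 6 ≤ Fintype.card α) : Goal 3 u w := by
  obtain ⟨b, e, a1, a2⟩ := model2 hu u1 hc
  obtain ⟨c, e', b1, b2⟩ := model2 hw w1 hc
  cases b <;> cases c
  · refine goal_tot (m := 20) (by norm_num) a1 b1 a2 b2
      (swap (0, 1) (1, 0) * swap (0, 2) (1, 1)) (swap (0, 1) (1, 0) * swap (0, 2) (1, 1) * swap (1, 1) (1, 2)) (by decide +kernel) (by decide +kernel) ?_
    rintro τ (rfl | rfl)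
    · exact ⟨ns_cert [true, false] [false, true] [false] (by decide +kernel) (by decide +kernel),
        (0, 0), by decide +kernel⟩
    · exact ⟨ns_cert [true, false] [false, true] [false] (by decide +kernel) (by decide +kernel),
        (0, 0), by decide +kernel⟩
  · refine goal_tot (m := 20) (by norm_num) a1 b1 a2 b2
      (swap (0, 2) (1, 0) * swap (1, 1) (1, 2)) (swap (0, 2) (1, 0)) (by decide +kernel) (by decide +kernel) ?_
    rintro τ (rfl | rfl)
    · exact ⟨ns_cert [true, false, true, true] [false] [false, true] (by decide +kernel) (by decide +kernel),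
        (0, 0), by decide +kernel⟩
    · exact ⟨ns_cert [true, false, true, true] [false] [false, true] (by decide +kernel) (by decide +kernel),
        (0, 0), by decide +kernel⟩
  · refine goal_tot (m := 20) (by norm_num) a1 b1 a2 b2
      (swap (0, 2) (1, 0) * swap (1, 1) (1, 2)) (swap (0, 2) (1, 0)) (by decide +kernel) (by decide +kernel) ?_
    rintro τ (rfl | rfl)
    · exact ⟨ns_cert [true, false, true, true] [false] [false, true] (by decide +kernel) (by decide +kernel),
        (0, 0), by decide +kernel⟩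
    · exact ⟨ns_cert [true, false, true, true] [false] [false, true] (by decide +kernel) (by decide +kernel),
        (0, 0), by decide +kernel⟩
  · refine goal_tot (m := 20) (by norm_num) a1 b1 a2 b2
      (swap (0, 2) (1, 0) * swap (1, 1) (1, 2)) (swap (0, 1) (1, 0) * swap (0, 2) (1, 1) * swap (1, 1) (1, 2)) (by decide +kernel) (by decide +kernel) ?_
    rintro τ (rfl | rfl)
    · exact ⟨ns_cert [true, false] [false, true] [false] (by decide +kernel) (by decide +kernel),
        (0, 0), by decide +kernel⟩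
    · exact ⟨ns_cert [true, false] [false, true] [false] (by decide +kernel) (by decide +kernel),
        (0, 0), by decide +kernel⟩

theorem goal3_mixed {u w : Perm α} (hu : u ^ 3 = 1) (u1 : u ≠ 1) {m : ℕ}
    {e' : Fin 3 × Fin 3 → α} (b1 : Function.Injective e')
    (b2 : Sc e' (lay ![true, true, true]) (w ^ m))
    (b3 : ∀ q : Fin 3 × Fin 3, q.1 < 2 → w (e' q) = e' (q.1 + 1, q.2)) : Goal 3 u w := by
  obtain ⟨b, c, e, a1, a2⟩ := model3 hu u1 (by simpa using Fintype.card_le_of_injective e' b1)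
  cases b <;> cases c
  · refine goal_part Nat.prime_three le_rfl a1 b1 (m := 1) (by rwa [pow_one]) b2 _
      (fun q => (q.1 + 1, q.2)) (fun _ => True) (fun q => q.1 < 2) (fun i _ => a2 i) b3
      (swap (0, 0) (2, 2) * swap (0, 1) (2, 2)) (swap (0, 0) (2, 1)) (by decide +kernel) (by decide +kernel) ?_
    rintro τ (rfl | rfl)
    · exact ⟨ns_cert [true] [false, true, false, false] [false, true, false] (by decide +kernel) (by decide +kernel),
        (0, 2), (1, 2), by decide +kernel⟩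
    · exact ⟨ns_cert [false, true, false, false] [true] [true, false] (by decide +kernel) (by decide +kernel),
        (0, 1), (1, 1), by decide +kernel⟩
  · refine goal_part Nat.prime_three le_rfl a1 b1 (m := 1) (by rwa [pow_one]) b2 _
      (fun q => (q.1 + 1, q.2)) (fun _ => True) (fun q => q.1 < 2) (fun i _ => a2 i) b3
      (swap (0, 0) (2, 1) * swap (0, 1) (2, 1)) (swap (0, 0) (2, 0) * swap (0, 1) (2, 2) * swap (2, 0) (2, 2)) (by decide +kernel) (by decide +kernel) ?_
    rintro τ (rfl | rfl)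
    · exact ⟨ns_cert [true] [false] [true, false, false, true, false] (by decide +kernel) (by decide +kernel),
        (0, 0), (1, 0), by decide +kernel⟩
    · exact ⟨ns_cert [true] [false] [true, false, false, true, false] (by decide +kernel) (by decide +kernel),
        (0, 1), (1, 1), by decide +kernel⟩
  · refine goal_part Nat.prime_three le_rfl a1 b1 (m := 1) (by rwa [pow_one]) b2 _
      (fun q => (q.1 + 1, q.2)) (fun _ => True) (fun q => q.1 < 2) (fun i _ => a2 i) b3
      (swap (0, 0) (1, 0) * swap (0, 1) (1, 0)) (swap (0, 0) (1, 0) * swap (0, 1) (1, 1) * swap (1, 0) (1, 1)) (by decide +kernel) (by decide +kernel) ?_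
    rintro τ (rfl | rfl)
    · exact ⟨ns_cert [true] [false] [true, false, false, true, false] (by decide +kernel) (by decide +kernel),
        (0, 0), (0, 2), by decide +kernel⟩
    · exact ⟨ns_cert [true] [false] [true, false, false, true, false] (by decide +kernel) (by decide +kernel),
        (0, 0), (0, 2), by decide +kernel⟩
  · refine goal_part Nat.prime_three le_rfl a1 b1 (m := 1) (by rwa [pow_one]) b2 _
      (fun q => (q.1 + 1, q.2)) (fun _ => True) (fun q => q.1 < 2) (fun i _ => a2 i) b3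
      (swap (0, 0) (1, 0) * swap (0, 1) (1, 0)) (swap (0, 0) (1, 0) * swap (0, 1) (1, 1) * swap (1, 0) (1, 1)) (by decide +kernel) (by decide +kernel) ?_
    rintro τ (rfl | rfl)
    · exact ⟨ns_cert [true, false, true] [false] [true] (by decide +kernel) (by decide +kernel),
        (0, 0), (0, 2), by decide +kernel⟩
    · exact ⟨ns_cert [true, false, true] [false] [true] (by decide +kernel) (by decide +kernel),
        (0, 0), (0, 2), by decide +kernel⟩

theorem goal3 (h5 : 5 ≤ Fintype.card α) {u w : Perm α} {k l : ℕ} (hu : u ^ 3 ^ k = 1)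
    (hw : w ^ 3 ^ l = 1) (u1 : u ≠ 1) (w1 : w ≠ 1) : Goal 3 u w := by
  obtain ⟨a, E, a1, a2, a3, a4⟩ := exists_std Nat.prime_three hu u1
  obtain ⟨b, E', b1, b2, b3, b4⟩ := exists_std Nat.prime_three hw w1
  rcases a with - | a <;> rcases b with - | b
  · rcases h5.eq_or_lt with h | h
    · exact goal3_five a2 b2 u1 w1 h.symm
    · exact goal3_six a2 b2 u1 w1 h
  · obtain ⟨e', c1, c2, c3⟩ := model_deep b1 b3 b4
    exact goal3_mixed a2 u1 c1 c2 c3
  · obtain ⟨e', c1, c2, c3⟩ := model_deep a1 a3 a4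
    exact (goal3_mixed b2 w1 c1 c2 c3).symm
  · obtain ⟨e, c1, c2, c3⟩ := model_deep a1 a3 a4
    obtain ⟨e', d1, d2, d3⟩ := model_deep b1 b3 b4
    refine goal_part Nat.prime_three le_rfl c1 d1 c2 d2 (fun q => (q.1 + 1, q.2))
      (fun q => (q.1 + 1, q.2)) (fun q => q.1 < 2) (fun q => q.1 < 2) c3 d3
      (swap (0, 0) (2, 2) * swap (0, 1) (2, 2) * swap (0, 2) (1, 1) * swap (1, 0) (2, 2)) (swap (0, 0) (1, 0) * swap (0, 1) (1, 1) * swap (1, 0) (1, 1)) (by decide +kernel) (by decide +kernel) ?_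
    rintro τ (rfl | rfl)
    · exact ⟨ns_cert [true, false] [false, true, true, false, true] [false, false] (by decide +kernel) (by decide +kernel),
        (0, 0), (0, 2), by decide +kernel⟩
    · exact ⟨ns_cert [true, false, true] [false] [true] (by decide +kernel) (by decide +kernel),
        (0, 0), (0, 1), by decide +kernel⟩

end Cfsg.Agent.PermB
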