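import Cfsg.Agent.PermB.PEl2

/-! Pairs of `p`-elements of alternating groups generating non-solvable subgroups, III. -/

set_option autoImplicit false

open Equiv Equiv.Perm

namespace Cfsg.Agent.PermB

variable {α β : Type*} [DecidableEq α] [DecidableEq β]

theorem five_model {U : Perm β} {x : Fin 5 → β} (hx : Function.Injective x) (h0 : U (x 0) = x 1)
    (h1 : U (x 1) = x 2) (h2 : U (x 2) = x 3) (h3 : U (x 3) = x 4) (τ : Perm β)
    (h : τ = swap (x 0) (x 1) * swap (x 1) (x 2) ∨ τ = swap (x 0) (x 1)) :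
    NS U (τ * U⁻¹ * τ⁻¹) ∧ ∃ i, ((U * (τ * U⁻¹ * τ⁻¹)) ^ 3) i = i ∧
      (U * (τ * U⁻¹ * τ⁻¹)) i ≠ i := by
  have s := fun i j => Sc.swap hx i j
  have c : ∀ a b : β, U * swap a b * U⁻¹ = swap (U a) (U b) := fun a b =>
    (swap_apply_apply U a b).symm
  have c2 : ∀ f g : Perm β, U * (f * g) * U⁻¹ = U * f * U⁻¹ * (U * g * U⁻¹) := fun f g => by group
  rcases h with rfl | rfl
  · have e : U * (swap (x 0) (x 1) * swap (x 1) (x 2) * U⁻¹ *
        (swap (x 0) (x 1) * swap (x 1) (x 2))⁻¹) = swap (x 1) (x 3) * swap (x 0) (x 1) := by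
      rw [← mul_assoc, ← mul_assoc, c2, c, c, h0, h1, h2, mul_inv_rev, swap_inv, swap_inv,
        ← mul_assoc, swap_comm (x 2) (x 3), swap_comm (x 1) (x 2),
        swap_mul_swap_mul_swap (hx.ne (by decide)) (hx.ne (by decide))]
    have e' : U * (swap (x 1) (x 3) * swap (x 0) (x 1)) * U⁻¹ =
        swap (x 2) (x 4) * swap (x 1) (x 2) := by rw [c2, c, c, h0, h1, h3]
    refine ⟨(NS.of_sc hx ((s 1 3).mul (s 0 1)) ((s 2 4).mul (s 1 2))
      (ns_cert [true, false] [false, true] [false] (by decide +kernel)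
        (by decide +kernel))).of_mem fun K k1 k2 => ?_, x 0, ?_, ?_⟩
    · rw [← e', ← e]
      exact ⟨mul_mem k1 k2, mul_mem (mul_mem k1 (mul_mem k1 k2)) (inv_mem k1)⟩
    · rw [e, ((s 1 3).mul (s 0 1)).pow 3 0]; exact congrArg x (by decide)
    · rw [e, ((s 1 3).mul (s 0 1)) 0]; exact hx.ne (by decide)
  · have e : U * (swap (x 0) (x 1) * U⁻¹ * (swap (x 0) (x 1))⁻¹) =
        swap (x 1) (x 2) * swap (x 0) (x 1) := by
      rw [← mul_assoc, ← mul_assoc, c, h0, h1, swap_inv]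
    have e' : U * (U * (swap (x 1) (x 2) * swap (x 0) (x 1)) * U⁻¹) * U⁻¹ =
        swap (x 3) (x 4) * swap (x 2) (x 3) := by
      rw [c2 (swap _ _), c, c, h0, h1, h2, c2, c, c, h1, h2, h3]
    refine ⟨(NS.of_sc hx ((s 1 2).mul (s 0 1)) ((s 3 4).mul (s 2 3))
      (ns_cert [true, false] [false, true] [false] (by decide +kernel)
        (by decide +kernel))).of_mem fun K k1 k2 => ?_, x 0, ?_, ?_⟩
    · rw [← e', ← e]
      exact ⟨mul_mem k1 k2, mul_mem (mul_mem k1 (mul_mem (mul_mem k1 (mul_mem k1 k2))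
        (inv_mem k1))) (inv_mem k1)⟩
    · rw [e, ((s 1 2).mul (s 0 1)).pow 3 0]; exact congrArg x (by decide)
    · rw [e, ((s 1 2).mul (s 0 1)) 0]; exact hx.ne (by decide)

theorem zmod_model {p : ℕ} [NeZero p] (hp : 5 ≤ p) : ∃ τ₁ τ₂ : Perm (ZMod p), sign τ₁ = 1 ∧
    sign τ₂ = -1 ∧ ∀ τ, (τ = τ₁ ∨ τ = τ₂) →
      NS (G := Perm (ZMod p)) (Equiv.addRight (1 : ZMod p)) (τ * (Equiv.addRight 1)⁻¹ * τ⁻¹) ∧
      ∃ i, ((Equiv.addRight 1 * (τ * (Equiv.addRight 1)⁻¹ * τ⁻¹)) ^ 3 : Perm (ZMod p)) i = i ∧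
        (Equiv.addRight 1 * (τ * (Equiv.addRight 1)⁻¹ * τ⁻¹) : Perm (ZMod p)) i ≠ i := by
  let x : Fin 5 → ZMod p := fun i => ((i : ℕ) : ZMod p)
  have hx : Function.Injective x := by
    intro i j h
    have := (ZMod.natCast_eq_natCast_iff' _ _ _).1 h
    rw [Nat.mod_eq_of_lt (by omega), Nat.mod_eq_of_lt (by omega)] at this
    exact Fin.ext this
  refine ⟨_, _, ?_, sign_swap (hx.ne (by decide)), five_model hx ?_ ?_ ?_ ?_⟩
  · rw [map_mul, sign_swap (hx.ne (by decide)), sign_swap (hx.ne (by decide))]; decide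
  all_goals simp [x]; try norm_num

variable [Fintype α]

theorem exists_even_ext [Finite β] {e e' : β → α} (he : Function.Injective e)
    (he' : Function.Injective e') {y₁ y₂ s t z₁ z₂ : α} (h1 : ∀ i, e' i ≠ y₁) (h2 : ∀ i, e' i ≠ y₂)
    (h3 : ∀ i, e' i ≠ s) (h4 : ∀ i, e' i ≠ t) (h5 : y₁ ≠ y₂) (h6 : s ≠ t) (h7 : y₁ ≠ s)
    (h8 : y₁ ≠ t) (h9 : y₂ ≠ s) (h10 : y₂ ≠ t) (k1 : ∀ i, e i ≠ z₁) (k2 : ∀ i, e i ≠ z₂)
    (k3 : z₁ ≠ z₂) :
    ∃ g : Perm α, sign g = 1 ∧ (∀ i, g (e' i) = e i) ∧ g y₁ = z₁ ∧ g y₂ = z₂ := by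
  have inj : ∀ (f : β → α) (a b : α), Function.Injective f → (∀ i, f i ≠ a) → (∀ i, f i ≠ b) →
      a ≠ b → Function.Injective (Sum.elim f fun c : Bool => cond c a b) := by
    intro f a b hf ha hb ab
    refine hf.sumElim ?_ ?_
    · intro c d; cases c <;> cases d <;> simp [ab, ab.symm]
    · intro i c; cases c
      · exact hb i
      · exact ha i
  obtain ⟨g, hg⟩ := Perm.exists_extending_pair _ _ (inj e' y₁ y₂ he' h1 h2 h5)
    (inj e z₁ z₂ he k1 k2 k3)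
  have g1 : ∀ i, g (e' i) = e i := fun i => hg (Sum.inl i)
  have g2 : g y₁ = z₁ := hg (Sum.inr true)
  have g3 : g y₂ = z₂ := hg (Sum.inr false)
  rcases Int.units_eq_one_or (sign g) with k | k
  · exact ⟨g, k, g1, g2, g3⟩
  · refine ⟨g * swap s t, by rw [map_mul, k, sign_swap h6]; decide, fun i => ?_, ?_, ?_⟩
    · rw [Perm.mul_apply, swap_apply_of_ne_of_ne (h3 i) (h4 i), g1]
    · rw [Perm.mul_apply, swap_apply_of_ne_of_ne h7 h8, g2]
    · rw [Perm.mul_apply, swap_apply_of_ne_of_ne h9 h10, g3]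

theorem exists_std' {p k : ℕ} (hp : p.Prime) {v : Perm α} (hv : v ^ p ^ k = 1) (h1 : v ≠ 1) :
    ∃ b : ℕ, ∃ E : ZMod p → α, Function.Injective E ∧ v ^ p ^ (b + 1) = 1 ∧
      Sc E (Equiv.addRight 1)⁻¹ (v ^ p ^ b) ∧
      ∀ (r : ℤ) (i j : ZMod p), (v ^ r) (E i) = E j → (p ^ b : ℤ) ∣ r := by
  obtain ⟨b, E, a1, a2, a3, a4⟩ := exists_std hp hv h1
  refine ⟨b, fun i => E (-i), a1.comp neg_injective, a2, fun i => ?_, fun r i j => a4 r _ _⟩
  rw [a3]
  simp [add_comm]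

theorem ns_conj_pow {u w g : Perm α} {m m' : ℕ} (h : NS (u ^ m) (g * w ^ m' * g⁻¹)) :
    NS u (g * w * g⁻¹) :=
  h.of_mem fun K h1 h2 => ⟨pow_mem h1 m, by rw [← conj_pow]; exact pow_mem h2 m'⟩

theorem not_dvd_small {p b : ℕ} (hp : 5 ≤ p) {r : ℤ} (h1 : r ≠ 0) (h2 : -3 < r) (h3 : r < 3) :
    ¬ (p ^ (b + 1) : ℤ) ∣ r := fun h => by
  have h' : (p : ℤ) ∣ r := (Dvd.intro_left _ (pow_succ _ _).symm).trans h
  have := Int.le_of_dvd (abs_pos.2 h1) ((dvd_abs _ _).2 h')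
  have := abs_lt.2 ⟨h2, h3⟩
  omega

theorem goal5_mixed {p : ℕ} (hp : p.Prime) (h5 : 5 ≤ p) {u w : Perm α} {E E' : ZMod p → α}
    (a1 : Function.Injective E) (a3 : Sc E (Equiv.addRight 1) u) {b : ℕ}
    (b1 : Function.Injective E') (b3 : Sc E' (Equiv.addRight 1)⁻¹ (w ^ p ^ (b + 1)))
    (b4 : ∀ (r : ℤ) (i j : ZMod p), (w ^ r) (E' i) = E' j → (p ^ (b + 1) : ℤ) ∣ r) :
    Goal p u w := by
  have : NeZero p := ⟨hp.ne_zero⟩
  have : Fact p.Prime := ⟨hp⟩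
  obtain ⟨τ₁, τ₂, t1, t2, t3⟩ := zmod_model h5
  by_cases h : ∃ z, (∀ i, E i ≠ z) ∧ u z ≠ z
  · obtain ⟨z, z1, z2⟩ := h
    have n1 : ∀ i j, E' i ≠ w (E' j) := fun i j k =>
      not_dvd_small h5 (r := 1) (by omega) (by omega) (by omega) (b4 _ j i (by simp [k]))
    have n2 : ∀ i j, E' i ≠ w⁻¹ (E' j) := fun i j k =>
      not_dvd_small h5 (r := -1) (by omega) (by omega) (by omega) (b4 _ j i (by simp [k]))
    have n3 : ∀ i j, w (E' i) ≠ w⁻¹ (E' j) := fun i j k =>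
      not_dvd_small h5 (r := 2) (by omega) (by omega) (by omega) (b4 _ i j (by
        rw [zpow_two, Perm.mul_apply, k]; simp))
    have n4 : ∀ i j, i ≠ j → w (E' i) ≠ w (E' j) := fun i j k => w.injective.ne (b1.ne k)
    have two : (1 : ZMod p) ≠ -1 := fun k => by
      have : ((2 : ℕ) : ZMod p) = 0 := by push_cast; linear_combination k
      rw [ZMod.natCast_eq_zero_iff] at this
      have := Nat.le_of_dvd (by norm_num) this
      omega
    obtain ⟨g, g1, g2, g3, g4⟩ := exists_even_ext (e := fun i => E (τ₁ i)) (a1.comp τ₁.injective)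
      b1 (y₁ := w (E' 0)) (y₂ := w⁻¹ (E' (τ₁⁻¹ (τ₁ 0 - 1)))) (s := w (E' 1)) (t := w (E' (-1)))
      (z₁ := u⁻¹ z) (z₂ := z) (fun i => n1 _ _) (fun i => n2 _ _) (fun i => n1 _ _)
      (fun i => n1 _ _) (n3 _ _) (n4 _ _ two) (n4 _ _ zero_ne_one) (n4 _ _ (by simp))
      (n3 _ _).symm (n3 _ _).symm
      (fun i k => z1 _ (by rw [← a3, k]; simp)) (fun i => z1 _)
      (fun k => z2 (Perm.inv_eq_iff_eq.1 k).symm)
    refine ⟨g, g1, np_two hp (by omega) (x := E (τ₁ 0)) (y := z) ?_ ?_ (z1 _),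
      ns_conj_pow (m := 1) (NS.of_sc a1 (by rwa [pow_one]) (b3.conj g2) (t3 _ (Or.inl rfl)).1)⟩
    · rw [← g2, Perm.mul_apply, conj_apply, g3]; simp
    · rw [← g4, Perm.mul_apply, conj_apply]
      simp only [Perm.coe_inv, apply_symm_apply]
      rw [g2, a3]; simp
  · push Not at h
    obtain ⟨g, g1, τ, g2, g3⟩ := exists_even_two a1 b1 t1 t2
    obtain ⟨k1, i, k2, k3⟩ := t3 τ g2
    have key : ∀ k < p ^ (b + 1), ∀ i, ((u * (g * w * g⁻¹)) ^ k) (E (τ i)) = g ((w ^ k) (E' i)) := by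
      intro k hk i
      induction k with
      | zero => simp [g3]
      | succ k ih =>
        rw [pow_succ', Perm.mul_apply, ih (by omega), Perm.mul_apply, conj_apply,
          ← Perm.mul_apply w, ← pow_succ', h]
        intro j hj
        rw [← τ.apply_symm_apply j, ← g3] at hj
        have := b4 (k + 1 : ℕ) i _ (by rw [zpow_natCast]; exact (g.injective hj).symm)
        have h' : p ^ (b + 1) ∣ k + 1 := by exact_mod_cast this
        have := Nat.le_of_dvd (by omega) h'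
        omega
    have s : Sc E (Equiv.addRight 1 * (τ * (Equiv.addRight 1)⁻¹ * τ⁻¹))
        ((u * (g * w * g⁻¹)) ^ p ^ (b + 1)) := by
      intro j
      obtain ⟨k, hk⟩ : ∃ k, p ^ (b + 1) = k + 1 :=
        Nat.exists_eq_succ_of_ne_zero (pow_ne_zero _ hp.ne_zero)
      rw [← a3.mul (b3.conj g3) j, ← τ.apply_symm_apply j, hk, pow_succ', Perm.mul_apply,
        key k (by omega), Perm.mul_apply, conj_apply, ← g3, Perm.mul_apply, conj_apply, pow_succ',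
        Perm.mul_apply]
    refine ⟨g, g1, NP.of_pow (p ^ (b + 1)) (np_of (m := 3) (x := E i)
      ((Nat.coprime_primes Nat.prime_three hp).2 (by omega)) ?_ ?_),
      ns_conj_pow (m := 1) (NS.of_sc a1 (by rwa [pow_one]) (b3.conj g3) k1)⟩
    · rw [s.pow 3 i, k2]
    · rw [s i]; exact a1.ne k3

theorem goal5 {p : ℕ} (hp : p.Prime) (h5 : 5 ≤ p) {u w : Perm α} {k l : ℕ} (hu : u ^ p ^ k = 1)
    (hw : w ^ p ^ l = 1) (u1 : u ≠ 1) (w1 : w ≠ 1) : Goal p u w := by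
  have : NeZero p := ⟨hp.ne_zero⟩
  have : Fact p.Prime := ⟨hp⟩
  obtain ⟨a, E, a1, a2, a3, a4⟩ := exists_std hp hu u1
  obtain ⟨b, E', b1, b2, b3, b4⟩ := exists_std' hp hw w1
  obtain ⟨τ₁, τ₂, t1, t2, t3⟩ := zmod_model h5
  rcases a with - | a <;> rcases b with - | b
  · rw [pow_zero, pow_one] at a3 b3
    exact goal_tot (m := 3) ((Nat.coprime_primes Nat.prime_three hp).2 (by omega)) a1 b1 a3 b3
      τ₁ τ₂ t1 t2 t3
  · rw [pow_zero, pow_one] at a3
    exact goal5_mixed hp h5 a1 a3 b1 b3 b4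
  · rw [pow_zero, pow_one] at b3
    refine (goal5_mixed hp h5 (E := fun i => E' (-i)) (E' := fun i => E (-i))
      (b1.comp neg_injective) (fun i => ?_) (a1.comp neg_injective) (b := a) (fun i => ?_)
      (fun r i j => a4 r _ _)).symm
    · rw [b3]; simp [add_comm, sub_eq_add_neg]
    · rw [a3]; simp [add_comm]
  · have n1 : ∀ i j, E' i ≠ w (E' j) := fun i j k =>
      not_dvd_small h5 (r := 1) (by omega) (by omega) (by omega) (b4 _ j i (by simp [k]))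
    have n2 : ∀ i j, E i ≠ u⁻¹ (E j) := fun i j k =>
      not_dvd_small h5 (r := -1) (by omega) (by omega) (by omega) (a4 _ j i (by simp [k]))
    have n4 : ∀ i j : Fin 5, i ≠ j → w (E' (i : ℕ)) ≠ w (E' (j : ℕ)) := fun i j k =>
      w.injective.ne (b1.ne fun h => k (by
        have := (ZMod.natCast_eq_natCast_iff' _ _ _).1 h
        rw [Nat.mod_eq_of_lt (by omega), Nat.mod_eq_of_lt (by omega)] at this
        exact Fin.ext this))
    have n5 : E (τ₁ ((0 : Fin 5) : ℕ)) ≠ E (τ₁ ((1 : Fin 5) : ℕ)) :=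
      a1.ne (τ₁.injective.ne (by simp))
    obtain ⟨g, g1, g2, g3, g4⟩ := exists_even_ext (e := fun i => E (τ₁ i)) (a1.comp τ₁.injective)
      b1 (z₁ := u⁻¹ (E (τ₁ ((1 : Fin 5) : ℕ)))) (z₂ := u⁻¹ (E (τ₁ ((0 : Fin 5) : ℕ))))
      (fun i => n1 _ _) (fun i => n1 _ _) (fun i => n1 _ _)
      (fun i => n1 _ _) (n4 0 1 (by decide)) (n4 2 3 (by decide)) (n4 0 2 (by decide))
      (n4 0 3 (by decide)) (n4 1 2 (by decide)) (n4 1 3 (by decide))
      (fun i => n2 _ _) (fun i => n2 _ _) (u⁻¹.injective.ne n5.symm)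
    refine ⟨g, g1, np_two hp (by omega) ?_ ?_ n5,
      ns_conj_pow (NS.of_sc a1 a3 (b3.conj g2) (t3 _ (Or.inl rfl)).1)⟩
    · rw [← g2 ((0 : Fin 5) : ℕ), Perm.mul_apply, conj_apply, g3]; simp
    · rw [← g2 ((1 : Fin 5) : ℕ), Perm.mul_apply, conj_apply, g4]; simp

theorem goal_alt (h5 : 5 ≤ Fintype.card α) {p : ℕ} (hp : p.Prime) (hp3 : 3 ≤ p)
    (u w : alternatingGroup α) (hu : u ≠ 1) (hw : w ≠ 1)
    (hu' : ∃ k : ℕ, orderOf u = p ^ k) (hw' : ∃ k : ℕ, orderOf w = p ^ k) :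
    ∃ g : alternatingGroup α, (¬ ∃ k : ℕ, orderOf (u * (g * w * g⁻¹)) = p ^ k) ∧
      ¬ Group.IsSolvable ↥(Subgroup.closure ({u, g * w * g⁻¹} : Set (alternatingGroup α))) := by
  have key : ∀ v : alternatingGroup α, ∀ k, orderOf v = p ^ k → (v : Perm α) ^ p ^ k = 1 := by
    intro v k h
    have := pow_orderOf_eq_one v
    rw [h] at this
    exact congrArg Subtype.val this
  obtain ⟨k, hk⟩ := hu'
  obtain ⟨l, hl⟩ := hw'
  have u1 : (u : Perm α) ≠ 1 := fun h => hu (Subtype.ext h)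
  have w1 : (w : Perm α) ≠ 1 := fun h => hw (Subtype.ext h)
  have : Goal p (u : Perm α) w := by
    rcases hp3.eq_or_lt with rfl | h
    · exact goal3 h5 (key u k hk) (key w l hl) u1 w1
    · have : p ≠ 4 := by rintro rfl; exact absurd hp (by decide)
      exact goal5 hp (by omega) (key u k hk) (key w l hl) u1 w1
  obtain ⟨g, g1, g2, g3⟩ := this
  lift g to alternatingGroup α using mem_alternatingGroup.2 g1
  refine ⟨g, fun ⟨m, hm⟩ => g2 m (key _ m hm), ?_⟩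
  exact NS.of_map (alternatingGroup α).subtype (a := u) (b := g * w * g⁻¹) g3 _
    (Subgroup.subset_closure (by simp)) (Subgroup.subset_closure (by simp))

end Cfsg.Agent.PermB
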