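import Cfsg.Agent.PermB.Ab

/-! Products of permutation groups on disjoint sets; existence of large abelian subgroups. -/

set_option autoImplicit false

open Equiv MulAction

namespace Cfsg.Agent.PermB

section pj
variable {α β Ω : Type*} (e : α ⊕ β ≃ Ω)

/-- embedding of a product of symmetric groups -/
def pj : Perm α × Perm β →* Perm Ω :=
  e.permCongrHom.toMonoidHom.comp (Perm.sumCongrHom α β)

theorem pj_injective : Function.Injective (pj e) :=
  e.permCongrHom.injective.comp Perm.sumCongrHom_injective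

theorem sign_pj [Fintype α] [Fintype β] [Fintype Ω] [DecidableEq α] [DecidableEq β]
    [DecidableEq Ω] (x : Perm α × Perm β) :
    Perm.sign (pj e x) = Perm.sign x.1 * Perm.sign x.2 := by
  change Perm.sign (e.permCongr (Perm.sumCongr x.1 x.2)) = _
  rw [Perm.sign_permCongr, Perm.sign_sumCongr]

/-- the product subgroup -/
def prodSub (A : Subgroup (Perm α)) (B : Subgroup (Perm β)) : Subgroup (Perm Ω) :=
  (A.prod B).map (pj e)

/-- the product subgroup is the direct product -/
noncomputable def prodSubEquiv (A : Subgroup (Perm α)) (B : Subgroup (Perm β)) :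
    prodSub e A B ≃* A × B :=
  ((A.prod B).equivMapOfInjective _ (pj_injective e)).symm.trans (A.prodEquiv B)

theorem card_prodSub (A : Subgroup (Perm α)) (B : Subgroup (Perm β)) :
    Nat.card (prodSub e A B) = Nat.card A * Nat.card B := by
  rw [Nat.card_congr (prodSubEquiv e A B).toEquiv, Nat.card_prod]

theorem prodSub_le_alt [Fintype α] [Fintype β] [Fintype Ω] [DecidableEq α] [DecidableEq β]
    [DecidableEq Ω] {A : Subgroup (Perm α)} {B : Subgroup (Perm β)}
    (hA : A ≤ alternatingGroup α) (hB : B ≤ alternatingGroup β) :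
    prodSub e A B ≤ alternatingGroup Ω := by
  rintro _ ⟨x, hx, rfl⟩
  rw [Perm.mem_alternatingGroup, sign_pj, Perm.mem_alternatingGroup.1 (hA hx.1),
    Perm.mem_alternatingGroup.1 (hB hx.2), mul_one]

theorem prodSub_comm (A : Subgroup (Perm α)) (B : Subgroup (Perm β)) [IsMulCommutative A]
    [IsMulCommutative B] : IsMulCommutative (prodSub e A B) := by
  have : IsMulCommutative (A.prod B) := IsMulCommutative.of_setLike_mul_comm fun a ha b hb =>
    Prod.ext (setLike_mul_comm ha.1 hb.1) (setLike_mul_comm ha.2 hb.2)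
  exact Subgroup.map_isMulCommutative _ _

end pj

/-- existence of an abelian subgroup of given order -/
def ExAb (ev : Prop) (n c : ℕ) : Prop :=
  ∃ A : Subgroup (Perm (Fin n)), IsMulCommutative A ∧ Nat.card A = c ∧
    (ev → A ≤ alternatingGroup (Fin n))

theorem ExAb.add {ev : Prop} {n c m d : ℕ} (h : ExAb ev n c) (h' : ExAb ev m d) :
    ExAb ev (n + m) (c * d) := by
  obtain ⟨A, a1, a2, a3⟩ := h
  obtain ⟨B, b1, b2, b3⟩ := h'
  exact ⟨prodSub finSumFinEquiv A B, prodSub_comm _ A B, by rw [card_prodSub, a2, b2],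
    fun h => prodSub_le_alt _ (a3 h) (b3 h)⟩

theorem exAb_one (ev : Prop) (n : ℕ) : ExAb ev n 1 :=
  ⟨⊥, inferInstance, Subgroup.card_bot, fun _ => bot_le⟩

theorem exAb_zpowers (ev : Prop) {n c : ℕ} (σ : Perm (Fin n)) (h : orderOf σ = c)
    (hs : ev → Perm.sign σ = 1) : ExAb ev n c :=
  ⟨Subgroup.zpowers σ, inferInstance, by rw [Nat.card_zpowers, h],
    fun h => (Subgroup.zpowers_le).2 (hs h)⟩

theorem exAb_three (ev : Prop) : ExAb ev 3 3 :=
  exAb_zpowers ev (finRotate 3) (orderOf_eq_prime (by decide) (by decide)) fun _ => by decide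

theorem exAb_five (ev : Prop) : ExAb ev 5 5 :=
  haveI : Fact (Nat.Prime 5) := ⟨by norm_num⟩
  exAb_zpowers ev (finRotate 5) (orderOf_eq_prime (by decide) (by decide)) fun _ => by decide

theorem exAb_two : ExAb False 2 2 :=
  exAb_zpowers _ (finRotate 2) (orderOf_eq_prime (by decide) (by decide)) False.elim

theorem exAb_four (ev : Prop) : ExAb ev 4 4 := by
  have h4 : Nat.card (Fin 4) = 4 := by simp
  have := alternatingGroup.kleinFour_isKleinFour h4
  have : IsMulCommutative (alternatingGroup.kleinFour (Fin 4)) := IsKleinFour.isMulCommutative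
  refine ⟨(alternatingGroup.kleinFour (Fin 4)).map (alternatingGroup (Fin 4)).subtype,
    inferInstance, ?_, fun _ => Subgroup.map_subtype_le _⟩
  rw [Subgroup.card_subtype, alternatingGroup.kleinFour_card_of_card_eq_four h4]

theorem exAb_gg (n : ℕ) : ExAb False n (gg n) := by
  induction n using Nat.strong_induction_on with
  | _ n ih =>
    rcases Nat.lt_or_ge n 5 with h | h
    · interval_cases n
      exacts [exAb_one _ _, exAb_one _ _, exAb_two, exAb_three _, exAb_four _]
    · obtain ⟨m, rfl⟩ : ∃ m, n = m + 3 := ⟨n - 3, by omega⟩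
      rw [gg_step (by omega), mul_comm]
      exact (ih m (by omega)).add (exAb_three _)

theorem exAb_mm (n : ℕ) : ExAb True n (mm n) := by
  induction n using Nat.strong_induction_on with
  | _ n ih =>
    rcases Nat.lt_or_ge n 9 with h | h
    · interval_cases n
      exacts [exAb_one _ _, exAb_one _ _, exAb_one _ _, exAb_three _, exAb_four _, exAb_five _,
        (exAb_three _).add (exAb_three _), (exAb_three _).add (exAb_four _),
        (exAb_four _).add (exAb_four _)]
    · obtain ⟨m, rfl⟩ : ∃ m, n = m + 3 := ⟨n - 3, by omega⟩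
      rw [mm_step (by omega), mul_comm]
      exact (ih m (by omega)).add (exAb_three _)

theorem isGreatest_sym (n : ℕ) : IsGreatest {c : ℕ | ∃ A : Subgroup (Perm (Fin n)),
    IsMulCommutative A ∧ Nat.card A = c} (gg n) := by
  obtain ⟨A, a1, a2, -⟩ := exAb_gg n
  refine ⟨⟨A, a1, a2⟩, ?_⟩
  rintro c ⟨B, b1, rfl⟩
  simpa using ab_card_le B

theorem exists_alt_mm (n : ℕ) : ∃ A : Subgroup (alternatingGroup (Fin n)),
    IsMulCommutative A ∧ Nat.card A = mm n := by
  obtain ⟨A, a1, a2, a3⟩ := exAb_mm n
  exact ⟨A.subgroupOf _, inferInstance,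
    by rw [Nat.card_congr (Subgroup.subgroupOfEquivOfLe (a3 trivial)).toEquiv, a2]⟩

theorem isGreatest_alt (n : ℕ) (hn : n ≠ 2) :
    IsGreatest {c : ℕ | ∃ A : Subgroup (alternatingGroup (Fin n)),
      IsMulCommutative A ∧ Nat.card A = c} (mm n) := by
  refine ⟨exists_alt_mm n, ?_⟩
  rintro c ⟨B, b1, rfl⟩
  have := even_card_le (B.map (alternatingGroup (Fin n)).subtype) (Subgroup.map_subtype_le _)
    (by simpa using hn)
  rwa [Subgroup.card_subtype, Fintype.card_fin] at this

end Cfsg.Agent.PermB
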